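import Cfsg.Agent.Lib.Blk.Weak

/-!
# Blocks, part 4: Brauer's second and third main theorems for the principal block
-/

set_option autoImplicit false

namespace Cfsg.Agent.Blk

open Subgroup Cfsg.Agent.OO
open scoped ComplexConjugate

universe u

variable {G : Type u} [Group G] {p k : ℕ} {Γ C H N : Subgroup G} {f φ ψ χ : G → ℂ} {u s x y : G}
  {w w' : (G → ℂ) → ℂ}

section
variable [Fintype G]

/-- the Brauer homomorphism on central character values -/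
noncomputable def br (C Γ : Subgroup G) (w : (G → ℂ) → ℂ) : (G → ℂ) → ℂ :=
  fun ψ => om C ψ (cfRes C (zf Γ w))

theorem zf_br (h : C ≤ Γ) (w : (G → ℂ) → ℂ) : zf C (br C Γ w) = cfRes C (zf Γ w) :=
  zf_eq (cfRes_mem_CF h (zf_mem_CF Γ w)) fun _ _ => rfl

theorem ZI.br (hw : ZI p Γ w) (h : C ≤ Γ) : ZI p C (br C Γ w) := fun x => by
  rw [zf_br h]
  by_cases hx : x ∈ C
  · rw [cfResE _ hx]; exact hw x
  · rw [cfRes_of_not_mem _ hx]; exact pInt_zero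

theorem ZS.br (hw : ZS p Γ w) (h : C ≤ Γ) : ZS p C (br C Γ w) := fun x => by
  rw [zf_br h]
  by_cases hx : x ∈ C
  · rw [cfResE _ hx]; exact hw x
  · rw [cfRes_of_not_mem _ hx]; exact pSm_zero

theorem br_sub (w w' : (G → ℂ) → ℂ) : br C Γ (w - w') = br C Γ w - br C Γ w' := by
  ext ψ; simp only [br, zf_sub, map_sub, om_sub, Pi.sub_apply]

theorem br_smul (c : ℂ) (w : (G → ℂ) → ℂ) : br C Γ (c • w) = c • br C Γ w := by
  ext ψ
  simp only [br, zf_smul, map_smul, om, Pi.smul_apply, smul_eq_mul, mul_assoc, ← Finset.mul_sum,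
    mul_div_assoc]

theorem br_one (hψ : IsIrr C ψ) : br C Γ 1 ψ = 1 := by
  classical
  rw [br, zf_one, cfRes_id (single_one_mem_CF C), ← zf_one, om_zf hψ, Pi.one_apply]

variable [hp : Fact p.Prime]

theorem br_mul (hu : u ∈ Γ) (hk : u ^ p ^ k = 1) (hw : ZI p Γ w) (hw' : ZI p Γ w') :
    ZS p (Γ ⊓ 𝐂[u]) (br (Γ ⊓ 𝐂[u]) Γ (w * w') - br (Γ ⊓ 𝐂[u]) Γ w * br (Γ ⊓ 𝐂[u]) Γ w') := by
  classical
  intro x
  have hu' : u ∈ 𝐂[u] := mem_centralizer_singleton_iff.2 rfl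
  rw [zf_sub, zf_mul, zf_br inf_le_left, zf_br inf_le_left, zf_br inf_le_left, zf_mul, Pi.sub_apply]
  by_cases hx : x ∈ Γ ⊓ 𝐂[u]
  swap
  · rw [cfRes_of_not_mem _ hx, conv_mem_suppOn (cfRes_mem_suppOn _) (cfRes_mem_suppOn _) x hx,
      sub_zero]
    exact pSm_zero
  have h1 := pSm_sum_of_invariant (p := p) (MulAut.conj u).toEquiv (s := elts (𝐂[u] : Set G)ᶜ)
    (F := fun y => zf Γ w y * zf Γ w' (y⁻¹ * x)) (fun y => by
      simp only [mem_elts, Set.mem_compl_iff, MulEquiv.toEquiv_eq_coe, EquivLike.coe_coe,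
        MulAut.conj_apply, SetLike.mem_coe]
      rw [(𝐂[u]).mul_mem_cancel_right (inv_mem hu'), (𝐂[u]).mul_mem_cancel_left hu'])
    (fun y hy m hm => dvd_of_conj_perm_pow (s := 1) hk (by simpa using hp.out.ne_one)
      (Commute.one_right u) (mem_elts.1 hy) (by rwa [mul_one]))
    (fun y _ => by
      simp only [MulEquiv.toEquiv_eq_coe, EquivLike.coe_coe, MulAut.conj_apply]
      rw [cfunJ (zf_mem_CF _ _) hu, ← cfunJ (zf_mem_CF _ _) hu (y⁻¹ * x)]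
      congr 2
      rw [mul_assoc u (y⁻¹ * x), mul_assoc y⁻¹, (show Commute x u from
        mem_centralizer_singleton_iff.1 hx.2).inv_right.eq]
      group)
    fun y _ => (hw _).mul (hw' _)
  convert h1 using 1
  rw [cfResE _ hx, conv, conv, ← Finset.sum_sub_distrib,
    ← Finset.sum_subset (Finset.subset_univ (elts (𝐂[u] : Set G)ᶜ))]
  · refine Finset.sum_congr rfl fun y hy => ?_
    rw [cfRes_of_not_mem (x := y) _ fun h => mem_elts.1 hy (mem_inf.1 h).2, zero_mul, sub_zero]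
  · intro y _ hy
    by_cases h : y ∈ Γ
    · have h2 : y ∈ Γ ⊓ 𝐂[u] := ⟨h, by simpa using hy⟩
      rw [cfResE _ h2, cfResE _ (mul_mem (inv_mem h2) hx), sub_self]
    · rw [cfun0 (zf_mem_CF _ _) h, cfRes_of_not_mem (x := y) _ fun h' => h (mem_inf.1 h').1]; simp

theorem br_pow (hu : u ∈ Γ) (hk : u ^ p ^ k = 1) (hw : ZI p Γ w) (n : ℕ) :
    ZS p (Γ ⊓ 𝐂[u]) (br (Γ ⊓ 𝐂[u]) Γ (w ^ (n + 1)) - br (Γ ⊓ 𝐂[u]) Γ w ^ (n + 1)) := by
  induction n with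
  | zero => simpa using zs_zero
  | succ n ih =>
    convert (br_mul hu hk (hw.pow (n + 1)) hw).add (ih.mul (hw.br inf_le_left)) using 1
    rw [← pow_succ]; ring

theorem pSm_om_regInd (hχ : χ ∈ B0 p H) : PSm p (om H χ (regInd p H) - (elts (Reg p H)).card) := by
  rw [B0_eq_blk] at hχ
  have := (mem_blk.1 hχ).2 _ (zi_om regInd_mem_CF regInd_pInt)
  rwa [om_cf1_regInd] at this

omit hp in
theorem om_regInd_eq_zero (h : IsIrr H χ) (hχ : χ ∉ B0 p H) : om H χ (regInd p H) = 0 := by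
  rw [om_regInd, not_not.1 fun h' => hχ (mem_B0.2 ⟨h, h'⟩), zero_div]

/-- Brauer's third main theorem -/
theorem pSm_br_B0 (hu : u ∈ Γ) (hk : u ^ p ^ k = 1) (hψ : IsIrr (Γ ⊓ 𝐂[u]) ψ) :
    PSm p (br (Γ ⊓ 𝐂[u]) Γ (ind (B0 p Γ)) ψ - ind (B0 p (Γ ⊓ 𝐂[u])) ψ) := by
  have hc : ¬ PSm p ((elts (Reg p Γ)).card : ℂ) := fun h => not_dvd_card_Reg Γ (pSm_natCast.1 h)
  have h1 : ZI p Γ ((fun χ => om Γ χ (regInd p Γ)) - ((elts (Reg p Γ)).card : ℂ) • ind (B0 p Γ)) :=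
    (zi_om regInd_mem_CF regInd_pInt).sub (zi_ind_B0.smul (pInt_natCast _))
  obtain ⟨n, hn⟩ := h1.nilpotent fun χ hχ => by
    by_cases h : χ ∈ B0 p Γ
    · simpa [ind_of_mem h] using pSm_om_regInd h
    · simpa [ind_of_not_mem h, om_regInd_eq_zero hχ h] using pSm_zero
  have h2 := ((hn.br inf_le_left).sub (br_pow hu hk h1 n)).pSm hψ
  rw [sub_sub_cancel, Pi.pow_apply] at h2
  have h3 := h2.of_pow
  have h4 : cfRes (Γ ⊓ 𝐂[u]) (regInd p Γ) = regInd p (Γ ⊓ 𝐂[u]) := by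
    ext x
    by_cases hx : x ∈ Γ ⊓ 𝐂[u]
    · rw [cfResE _ hx]
      by_cases hx' : p ∣ orderOf x
      · rw [regInd_of_not_mem fun h => h.2 hx', regInd_of_not_mem fun h => h.2 hx']
      · rw [regInd_of_mem ⟨hx.1, hx'⟩, regInd_of_mem ⟨hx, hx'⟩]
    · rw [cfRes_of_not_mem _ hx, regInd_of_not_mem fun h => hx h.1]
  rw [br_sub, br_smul, Pi.sub_apply, br, zf_eq regInd_mem_CF fun _ _ => rfl, h4, Pi.smul_apply,
    smul_eq_mul] at h3
  by_cases h : ψ ∈ B0 p (Γ ⊓ 𝐂[u])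
  · have h5 := (br_mul hu hk zi_ind_B0 zi_ind_B0).pSm hψ
    rw [ind_mul_self] at h5
    rw [ind_of_mem h]
    refine (pSm_or_of_idem h5.sub_comm).resolve_left fun h6 => ?_
    exact not_dvd_card_Reg _ (pSm_natCast.1 ((pSm_om_regInd h).sub_comm.of_sub
      (h3.of_sub ((pInt_natCast _).mul_pSm h6))))
  · rw [om_regInd_eq_zero hψ h, zero_sub] at h3
    rw [ind_of_not_mem h, sub_zero]
    exact PSm.of_mul_left (by simpa using h3.neg) hc

theorem zs_br_mul (hu : u ∈ Γ) (hk : u ^ p ^ k = 1) (hw : ZI p Γ w) (hw' : ZI p (Γ ⊓ 𝐂[u]) w')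
    (h1 : w * w = w) (h2 : w' * w' = w')
    (h : ∀ ψ, IsIrr (Γ ⊓ 𝐂[u]) ψ → PSm p (br (Γ ⊓ 𝐂[u]) Γ w ψ * w' ψ)) :
    ZS p (Γ ⊓ 𝐂[u]) (br (Γ ⊓ 𝐂[u]) Γ w * w') := by
  refine ((hw.br inf_le_left).mul hw').zs_of_idem h ?_
  convert zs_zero.sub ((br_mul hu hk hw hw).mul hw') using 1
  rw [h1, mul_mul_mul_comm, h2]; ring

theorem sum_zf_mul_eq_zero (hu : u ∈ Γ) (hk : u ^ p ^ k = 1) (hs : s ∈ Reg p (Γ ⊓ 𝐂[u]))
    (hw : ZI p Γ w) (hw' : ZI p (Γ ⊓ 𝐂[u]) w') (h1 : w * w = w) (h2 : w' * w' = w')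
    (h : ZS p (Γ ⊓ 𝐂[u]) (br (Γ ⊓ 𝐂[u]) Γ w * w')) (hχ : IsIrr Γ χ) (hwχ : w χ = 1) :
    ∑ c, zf (Γ ⊓ 𝐂[u]) w' c * χ (u * s * c) = 0 := by
  classical
  set a := zf Γ w with ha
  set f := zf (Γ ⊓ 𝐂[u]) w' with hf
  have haΓ : a ∈ CF Γ := zf_mem_CF _ _
  have hfC : f ∈ CF (Γ ⊓ 𝐂[u]) := zf_mem_CF _ _
  have hfΓ : f ∈ suppOn (Γ : Set G) := fun x hx => hfC.1 x fun h => hx h.1
  have hg : u * s ∈ Γ ⊓ 𝐂[u] := mul_mem ⟨hu, mem_centralizer_singleton_iff.2 rfl⟩ hs.1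
  have hc : Commute u s := (mem_centralizer_singleton_iff.1 hs.1.2).symm
  set g := u * s with hgdef
  have hPΓ : conv a f ∈ suppOn (Γ : Set G) := conv_mem_suppOn haΓ.1 hfΓ
  have hPJ : ∀ t, conv a f (g⁻¹ * t * g) = conv a f t := fun t => by
    simpa using conv_conj (cfunJ haΓ (inv_mem hg.1)) (cfunJ hfC (inv_mem hg)) t
  have hPi : ∀ t, PInt p (conv a f t) := conv_pInt hw hw'
  have hP : Lm (conv a f) * Lm (conv a f) = Lm (conv a f) := by
    rw [Lm_mul, conv_assoc, ← conv_assoc f, ← conv_comm haΓ hfΓ, conv_assoc, ← conv_assoc, ha, hf,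
      ← zf_mul, ← zf_mul, h1, h2]
  obtain ⟨ε, κ, hε, hκ, hκσ⟩ := exists_twist (p := p) (MulAut.conj g⁻¹).toEquiv
  replace hκσ : ∀ t ∉ 𝐂[u], κ (g⁻¹ * t * g) = ε * κ t := fun t ht => by
    have := hκσ t fun m hm => dvd_of_commute_pow hk hs.2 hc (by
      rw [conj_perm_pow, mul_inv_eq_iff_eq_mul, inv_pow] at hm
      exact Commute.inv_left_iff.1 hm) fun e => ht (mem_centralizer_singleton_iff.2 e.symm)
    simpa using this
  let X : G → ℂ := fun t => if t ∈ 𝐂[u] then 0 else κ t * conv a f t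
  have hq := zf_mem_CF Γ (ind {χ})
  have h0 := trace_eq_zero (p := p) (U := Lm (Pi.single g 1)) (X := Lm X)
    (Q := Lm (zf Γ (ind {χ}))) hP
    (by
      rw [Lm_mul, Lm_mul]; congr 1; ext t
      rw [conv_single, conv_single_right, ← hPJ (t * g⁻¹), ← mul_assoc g⁻¹, inv_mul_cancel_right])
    (by rw [Lm_mul, Lm_mul, conv_comm hq hPΓ])
    (by
      rw [Lm_mul, Lm_mul, conv_comm hq fun t ht => ?_]
      simp [X, hPΓ t ht]) hε
    (by
      rw [Lm_mul, Lm_mul]; ext i j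
      simp only [Lm, Matrix.smul_apply, conv_single, conv_single_right, smul_eq_mul]
      rw [show g⁻¹ * (i * j⁻¹) = g⁻¹ * (i * j⁻¹ * g⁻¹) * g by group]
      generalize i * j⁻¹ * g⁻¹ = t
      by_cases ht : t ∈ 𝐂[u]
      · simp [X, ht, (𝐂[u]).mul_mem ((𝐂[u]).mul_mem ((𝐂[u]).inv_mem hg.2) ht) hg.2]
      · have ht' : g⁻¹ * t * g ∉ 𝐂[u] := by
          rwa [(𝐂[u]).mul_mem_cancel_right hg.2, (𝐂[u]).mul_mem_cancel_left ((𝐂[u]).inv_mem hg.2)]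
        simp only [X, if_neg ht, if_neg ht', hκσ t ht, hPJ, mul_assoc ε])
    (by
      rw [show Lm (conv a f) * Lm X * Lm (conv a f) - Lm (conv a f) =
        Lm (conv a f) * (Lm X - Lm (conv a f)) * Lm (conv a f) by rw [mul_sub, sub_mul, hP, hP]]
      refine (MInt.mul_mSm (fun i j => hPi _) fun i j => ?_).mul_mInt fun i j => hPi _
      simp only [Matrix.sub_apply, Lm]
      generalize i * j⁻¹ = t
      by_cases ht : t ∈ 𝐂[u]
      · simp only [X, if_pos ht, zero_sub]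
        refine PSm.neg ?_
        by_cases ht' : t ∈ Γ
        · convert h t using 1
          rw [zf_mul, zf_br inf_le_left, conv_eq, conv_eq]
          refine Finset.sum_congr rfl fun c _ => ?_
          by_cases hc : c ∈ Γ ⊓ 𝐂[u]
          · rw [cfResE _ (mul_mem (mem_inf.2 ⟨ht', ht⟩) (inv_mem hc))]
          · rw [← hf, cfun0 hfC hc, mul_zero, mul_zero]
        · rw [hPΓ t ht']; exact pSm_zero
      · simp only [X, if_neg ht]
        rw [← sub_one_mul]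
        exact (hκ t).mul_pInt (hPi t))
  rw [Lm_mul, Lm_mul, trace_Lm, conv_comm haΓ hfΓ, ← conv_assoc, conv] at h0
  have h3 : ∀ y, zf Γ (ind {χ}) (y⁻¹ * 1) = (♯Γ : ℂ)⁻¹ * χ 1 * χ y := fun y => by
    rw [zf_apply, Finset.sum_eq_single χ, ind_of_mem (Finset.mem_singleton_self χ), mul_one,
      char_inv hχ.isChar, Complex.conj_conj, one_mul, mul_assoc]
    · exact fun ψ _ hne => by rw [ind_of_not_mem (by simpa using hne), zero_mul, zero_mul]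
    · exact fun h => absurd (mem_Irr.2 hχ) h
  simp only [h3, mul_left_comm _ (_ * χ 1), ← Finset.mul_sum] at h0
  rw [sum_conv_mul hχ _ haΓ, ha, om_zf hχ, hwχ, mul_one] at h0
  have h4 := (mul_eq_zero.1 ((mul_eq_zero.1 h0).resolve_left (mul_ne_zero
    (inv_ne_zero (cardC_ne_zero Γ)) (irr1_neq0 hχ)))).resolve_left (by simp)
  rw [← h4]
  exact Fintype.sum_equiv (Equiv.mulLeft g) _ _ fun c => by simp [conv_single]

end

variable [Finite G]

/-- projection onto the span of the principal block -/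
noncomputable def prB (p : ℕ) (H : Subgroup G) : (G → ℂ) →ₗ[ℂ] (G → ℂ) :=
  ∑ χ ∈ B0 p H, (cfdotL H χ).smulRight χ

theorem prB_eq (φ : G → ℂ) : prB p H φ = ∑ χ ∈ B0 p H, ⟪φ, χ⟫[H] • χ := by
  simp [prB, cfdotL_apply]

theorem prB_apply (φ : G → ℂ) (x : G) : prB p H φ x = ∑ χ ∈ B0 p H, ⟪φ, χ⟫[H] * χ x := by
  simp [prB_eq]

theorem prB_mem_CF (φ : G → ℂ) : prB p H φ ∈ CF H :=
  prB_eq φ ▸ sum_smul_irr_mem_CF (fun _ => isIrr_of_mem_B0) _

theorem prB_congr (h : ∀ x ∈ H, φ x = ψ x) : prB p H φ = prB p H ψ := by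
  rw [prB_eq, prB_eq]
  exact Finset.sum_congr rfl fun χ _ => by rw [cfdot_congr h fun _ _ => rfl]

theorem prB_cfRes (φ : G → ℂ) : prB p H (cfRes H φ) = prB p H φ :=
  prB_congr fun _ hx => cfResE _ hx

theorem cfdot_prB_of_mem (φ : G → ℂ) (hχ : χ ∈ B0 p H) : ⟪prB p H φ, χ⟫[H] = ⟪φ, χ⟫[H] := by
  rw [prB_eq, cfdot_sum_smul_irr (fun _ => isIrr_of_mem_B0) _ hχ]

theorem cfdot_prB_of_not_mem (φ : G → ℂ) (h : IsIrr H χ) (hχ : χ ∉ B0 p H) :
    ⟪prB p H φ, χ⟫[H] = 0 := by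
  rw [prB_eq, cfdot_sum_smul_irr_of_not_mem (fun _ => isIrr_of_mem_B0) _ h hχ]

theorem prB_eq_self (hφ : φ ∈ CF H) (h : ∀ χ, IsIrr H χ → χ ∉ B0 p H → ⟪φ, χ⟫[H] = 0) :
    prB p H φ = φ := cfun_ext_irr (prB_mem_CF φ) hφ fun χ hχ => by
  by_cases h' : χ ∈ B0 p H
  · exact cfdot_prB_of_mem φ h'
  · rw [cfdot_prB_of_not_mem φ hχ h', h χ hχ h']

theorem prB_of_mem (hχ : χ ∈ B0 p H) : prB p H χ = χ :=
  prB_eq_self (isIrr_of_mem_B0 hχ).mem_CF fun _ h h' =>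
    cfdot_irr_ne (isIrr_of_mem_B0 hχ) h fun e => h' (e ▸ hχ)

theorem prB_of_not_mem (h : IsIrr H χ) (hχ : χ ∉ B0 p H) : prB p H χ = 0 := by
  rw [prB_eq]
  exact Finset.sum_eq_zero fun ψ hψ => by
    rw [cfdot_irr_ne h (isIrr_of_mem_B0 hψ) fun e => hχ (e ▸ hψ), zero_smul]

theorem prB_prB (φ : G → ℂ) : prB p H (prB p H φ) = prB p H φ :=
  prB_eq_self (prB_mem_CF φ) fun _ => cfdot_prB_of_not_mem φ

theorem cfdot_prB (φ ψ : G → ℂ) : ⟪prB p H φ, ψ⟫[H] = ⟪φ, prB p H ψ⟫[H] := by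
  rw [prB_eq, prB_eq, cfdot_suml, cfdot_sumr]
  exact Finset.sum_congr rfl fun χ _ => by rw [cfdotZl, cfdotZr, conj_cfdot, mul_comm]

theorem prB_vchar (h : H ≤ Γ) (hφ : φ ∈ ZIrr Γ) : prB p H φ ∈ ZIrr H := by
  rw [← prB_cfRes, prB_eq]
  exact Submodule.sum_mem _ fun χ hχ => scale_zchar
    (Cint_cfdot_vchar_irr (cfRes_vchar h hφ) (isIrr_of_mem_B0 hχ)) (irr_vchar (isIrr_of_mem_B0 hχ))

theorem sum_zf_B0_mul [Fintype G] (h : H ≤ Γ) (hφ : φ ∈ CF Γ) (hx : x ∈ H) :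
    ∑ c, zf H (ind (B0 p H)) c * φ (x * c) = prB p H φ x := by
  have h1 : ∀ c, zf H (ind (B0 p H)) c * φ (x * c) =
      ∑ ψ ∈ Irr H, ⟪φ, ψ⟫[H] * (zf H (ind (B0 p H)) c * ψ (x * c)) := fun c => by
    by_cases hc : c ∈ H
    · rw [← cfResE φ (H.mul_mem hx hc), cfun_apply_sum_cfdot (cfRes_mem_CF h hφ), Finset.mul_sum]
      simp only [cfdot_cfRes_left, mul_left_comm]
    · simp [cfun0 (zf_mem_CF _ _) hc]
  simp only [h1]
  rw [Finset.sum_comm, prB_apply, ← Finset.sum_subset B0_subset]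
  · refine Finset.sum_congr rfl fun ψ hψ => ?_
    rw [← Finset.mul_sum, sum_mul_irr' (isIrr_of_mem_B0 hψ) (zf_mem_CF _ _),
      om_zf (isIrr_of_mem_B0 hψ), ind_of_mem hψ, one_mul]
  · intro ψ hψ hψ'
    rw [← Finset.mul_sum, sum_mul_irr' (mem_Irr.1 hψ) (zf_mem_CF _ _), om_zf (mem_Irr.1 hψ),
      ind_of_not_mem hψ', zero_mul, mul_zero]

variable [hp : Fact p.Prime]

theorem prB_cent_irr (hu : u ∈ Γ) (hk : u ^ p ^ k = 1) (hs : s ∈ Reg p (Γ ⊓ 𝐂[u]))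
    (hχ : IsIrr Γ χ) : prB p (Γ ⊓ 𝐂[u]) χ (u * s) = prB p Γ χ (u * s) := by
  classical
  have := Fintype.ofFinite G
  have hg : u * s ∈ Γ ⊓ 𝐂[u] := mul_mem ⟨hu, mem_centralizer_singleton_iff.2 rfl⟩ hs.1
  have hid : ∀ B : Finset (G → ℂ), (1 - ind B) * (1 - ind B) = 1 - ind B := fun B => by
    rw [mul_sub, sub_mul, sub_mul, ind_mul_self]; simp
  rw [← sum_zf_B0_mul inf_le_left hχ.mem_CF hg]
  by_cases h : χ ∈ B0 p Γ
  · have h1 := sum_zf_mul_eq_zero hu hk hs zi_ind_B0 (zi_one.sub zi_ind_B0) (ind_mul_self _) (hid _)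
      (zs_br_mul hu hk zi_ind_B0 (zi_one.sub zi_ind_B0) (ind_mul_self _) (hid _) fun ψ hψ => by
        have h2 := pSm_br_B0 hu hk hψ
        by_cases h' : ψ ∈ B0 p (Γ ⊓ 𝐂[u])
        · simpa [ind_of_mem h'] using pSm_zero
        · simpa [ind_of_not_mem h'] using h2) hχ (ind_of_mem h)
    simp only [zf_sub, zf_one, Pi.sub_apply, sub_mul, Finset.sum_sub_distrib, Pi.single_apply,
      ite_mul, one_mul, zero_mul, Finset.sum_ite_eq', Finset.mem_univ, if_true, mul_one] at h1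
    rw [prB_of_mem h, sub_eq_zero.1 h1]
  · rw [prB_of_not_mem hχ h]
    exact sum_zf_mul_eq_zero hu hk hs (zi_one.sub zi_ind_B0) zi_ind_B0 (hid _) (ind_mul_self _)
      (zs_br_mul hu hk (zi_one.sub zi_ind_B0) zi_ind_B0 (hid _) (ind_mul_self _) fun ψ hψ => by
        have h2 := pSm_br_B0 hu hk hψ
        by_cases h' : ψ ∈ B0 p (Γ ⊓ 𝐂[u])
        · simpa [br_sub, br_one hψ, ind_of_mem h'] using h2.sub_comm
        · simpa [ind_of_not_mem h'] using pSm_zero) hχ (by simp [ind_of_not_mem h])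

/-- Brauer's second and third main theorems for the principal block -/
theorem prB_cent (hu : u ∈ Γ) (hk : u ^ p ^ k = 1) (hs : s ∈ Reg p (Γ ⊓ 𝐂[u])) (hφ : φ ∈ CF Γ) :
    prB p (Γ ⊓ 𝐂[u]) φ (u * s) = prB p Γ φ (u * s) := by
  rw [cfun_sum_cfdot hφ]
  simp only [map_sum, map_smul, Finset.sum_apply, Pi.smul_apply]
  exact Finset.sum_congr rfl fun χ hχ => by rw [prB_cent_irr hu hk hs (mem_Irr.1 hχ)]

/-- the same for an arbitrary subgroup containing the centralizer of the `p`-part -/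
theorem prB_of_cent_le (hH : H ≤ Γ) (hu : u ∈ H) (hk : u ^ p ^ k = 1) (hC : Γ ⊓ 𝐂[u] ≤ H)
    (hs : s ∈ Reg p (Γ ⊓ 𝐂[u])) (hφ : φ ∈ CF Γ) : prB p H φ (u * s) = prB p Γ φ (u * s) := by
  have e : H ⊓ 𝐂[u] = Γ ⊓ 𝐂[u] := le_antisymm (inf_le_inf_right _ hH) (le_inf hC inf_le_right)
  rw [← prB_cent (hH hu) hk hs hφ, ← prB_cfRes, ← prB_cent hu hk (e ▸ hs) (cfRes_mem_CF hH hφ), e,
    prB_congr fun x hx => cfResE φ (hC hx)]

/-- the principal block is constant on cosets of `O_{p'}(C(u))` in the section of `u` -/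
theorem prB_mul_eq (hu : u ∈ Γ) (hk : u ^ p ^ k = 1) (hs : s ∈ Reg p (Γ ⊓ 𝐂[u]))
    (hN : N ⊴ Γ ⊓ 𝐂[u]) (hNp : ¬ p ∣ ♯N) (hy : y ∈ N) (φ : G → ℂ) :
    prB p Γ φ (u * (y * s)) = prB p Γ φ (u * s) := by
  rw [← prB_prB, ← prB_cent hu hk hs (prB_mem_CF φ),
    ← prB_cent hu hk (mul_mem_Reg hN hNp hs hy) (prB_mem_CF φ), prB_apply, prB_apply]
  refine Finset.sum_congr rfl fun ψ hψ => ?_
  rw [← mul_assoc, ← mem_centralizer_singleton_iff.1 (hN.1 hy).2, mul_assoc,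
    cfkerMl (le_cfker_of_mem_B0 hψ hN hNp hy)]

theorem apply_mul_eq_of_mem_B0 (hχ : χ ∈ B0 p Γ) (hu : u ∈ Γ) (hk : u ^ p ^ k = 1)
    (hN : N ⊴ Γ ⊓ 𝐂[u]) (hNp : ¬ p ∣ ♯N) (hy : y ∈ N) : χ (u * y) = χ u := by
  simpa [prB_of_mem hχ] using prB_mul_eq hu hk one_mem_Reg hN hNp hy χ

theorem prB_eq_zero_of_reg (h : ∀ y ∈ Reg p H, φ y = 0) (hx : x ∈ Reg p H) : prB p H φ x = 0 := by
  simp only [prB_apply, cfdotE, mul_assoc, Finset.sum_mul, ← Finset.mul_sum]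
  rw [Finset.sum_comm, Finset.sum_eq_zero, mul_zero]
  intro y hy
  by_cases h' : p ∣ orderOf y
  · simp only [mul_comm (conj _), ← Finset.mul_sum, weak_orth hx (mem_elts.1 hy) h', mul_zero]
  · simp [h y ⟨mem_elts.1 hy, h'⟩]

theorem prB_eq_zero_of_sing (h : ∀ y ∈ H, y ∉ Reg p H → φ y = 0) (hx : x ∉ Reg p H) :
    prB p H φ x = 0 := by
  by_cases hxH : x ∈ H
  swap
  · exact cfun0 (prB_mem_CF φ) hxH
  simp only [prB_apply, cfdotE, mul_assoc, Finset.sum_mul, ← Finset.mul_sum]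
  rw [Finset.sum_comm, Finset.sum_eq_zero, mul_zero]
  intro y hy
  by_cases h' : y ∈ Reg p H
  · simp only [mul_comm (conj _), ← Finset.mul_sum,
      weak_orth' h' hxH (not_not.1 fun e => hx ⟨hxH, e⟩), mul_zero]
  · simp [h y (mem_elts.1 hy) h']

/-- the projection commutes with restriction to the `p`-regular elements -/
theorem prB_regInd_mul (φ : G → ℂ) : prB p H (regInd p H * φ) = regInd p H * prB p H φ := by
  ext x
  by_cases hx : x ∈ Reg p H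
  · have := prB_eq_zero_of_reg (φ := φ - regInd p H * φ) (fun y hy => by
      simp [regInd_of_mem hy]) hx
    rw [map_sub, Pi.sub_apply, sub_eq_zero] at this
    rw [Pi.mul_apply, regInd_of_mem hx, one_mul, this]
  · rw [Pi.mul_apply, regInd_of_not_mem hx, zero_mul]
    exact prB_eq_zero_of_sing (fun y _ hy => by simp [regInd_of_not_mem hy]) hx

omit hp in
/-- the projection commutes with translation by a central element -/
theorem prB_translate (hu : u ∈ H) (hc : H ≤ 𝐂[u]) (φ : G → ℂ) (x : G) :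
    prB p H (fun y => φ (u * y)) x = prB p H φ (u * x) := by
  rw [prB_apply, prB_apply]
  refine Finset.sum_congr rfl fun χ hχ => ?_
  obtain ⟨c, hc⟩ := (isIrr_of_mem_B0 hχ).exists_scalar hu fun y hy => by
    rw [← mem_centralizer_singleton_iff.1 (hc hy)]; simp [one_mem]
  have h1 : c * conj c = 1 := by
    have h2 := cfdot_irr_self (isIrr_of_mem_B0 hχ)
    have h3 := h2
    rw [cfdotE, ← sum_elts_mul_left hu] at h3
    simp only [hc, map_mul, mul_mul_mul_comm c _ (conj c), ← Finset.mul_sum] at h3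
    rwa [mul_left_comm, ← cfdotE, h2, mul_one] at h3
  rw [hc, cfdotE, cfdotE, ← sum_elts_mul_left hu (fun y => φ y * conj (χ y))]
  simp only [hc, map_mul, mul_left_comm _ (conj c), ← Finset.mul_sum]
  linear_combination (-(♯H : ℂ)⁻¹ * (∑ y ∈ elts (H : Set G), φ (u * y) * conj (χ y)) * χ x) * h1

/-- the projection preserves vanishing on a `p`-section -/
theorem prB_eq_zero_of_section (hu : u ∈ Γ) (hk : u ^ p ^ k = 1) (hφ : φ ∈ CF Γ)
    (h : ∀ y ∈ Reg p (Γ ⊓ 𝐂[u]), φ (u * y) = 0) (hs : s ∈ Reg p (Γ ⊓ 𝐂[u])) :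
    prB p Γ φ (u * s) = 0 := by
  rw [← prB_cent hu hk hs hφ, 
    ← prB_translate (mem_inf.2 ⟨hu, mem_centralizer_singleton_iff.2 rfl⟩) inf_le_right]
  exact prB_eq_zero_of_reg h hs

end Cfsg.Agent.Blk
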