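import Cfsg.Agent.Lib.Blk.Center
import Cfsg.Agent.Lib.Transfer.Frobenius

/-!
# Blocks, part 3: weak block orthogonality and the principal block
-/

set_option autoImplicit false

namespace Cfsg.Agent.Blk

open Subgroup Cfsg.Agent.OO
open scoped ComplexConjugate

universe u

variable {G : Type u} [Group G] {p : ℕ} {H N : Subgroup G} {f φ χ : G → ℂ} {x y : G}

theorem sum_conj_mul [Finite G] (hχ : IsIrr H χ) (hx : x ∈ H) (y : G) :
    χ 1 * ∑ i ∈ elts (H : Set G), χ (i * x * i⁻¹ * y) = ♯H * χ x * χ y := by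
  classical
  have h1 : ∀ F : G → ℂ, ∑ t ∈ elts (H : Set G),
      (∑ i ∈ elts (H : Set G), if t = i * x * i⁻¹ then (1 : ℂ) else 0) * F t =
      ∑ i ∈ elts (H : Set G), F (i * x * i⁻¹) := fun F => by
    simp only [Finset.sum_mul]
    rw [Finset.sum_comm]
    refine Finset.sum_congr rfl fun i hi => ?_
    have : i * x * i⁻¹ ∈ H := H.mul_mem (H.mul_mem (mem_elts.1 hi) hx) (H.inv_mem (mem_elts.1 hi))
    simp [this]
  have h2 : (fun t => ∑ i ∈ elts (H : Set G), if t = i * x * i⁻¹ then (1 : ℂ) else 0) ∈ CF H := by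
    refine ⟨fun t ht => Finset.sum_eq_zero fun i hi => if_neg fun e => ht ?_, fun h hh t => ?_⟩
    · exact e ▸ H.mul_mem (H.mul_mem (mem_elts.1 hi) hx) (H.inv_mem (mem_elts.1 hi))
    · beta_reduce
      rw [← sum_elts_mul_left hh]
      refine Finset.sum_congr rfl fun i _ => if_congr ?_ rfl rfl
      rw [show h * i * x * (h * i)⁻¹ = h * (i * x * i⁻¹) * h⁻¹ by group, mul_left_inj, mul_right_inj]
  have h3 := irr_conv hχ h2 y
  rw [h1 fun t => χ (t * y), h1 χ] at h3
  rw [h3, Finset.sum_congr rfl fun i hi => cfunJ hχ.mem_CF (mem_elts.1 hi) x, sum_elts_const,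
    nsmul_eq_mul]

variable [hp : Fact p.Prime]

theorem dvd_of_commute_pow {u s h : G} {k m : ℕ} (hu : u ^ p ^ k = 1) (hs : ¬ p ∣ orderOf s)
    (hc : Commute u s) (hm : Commute ((u * s) ^ m) h) (hh : ¬ Commute u h) : p ∣ m := by
  by_contra hpm
  have h1 : (m * orderOf s).Coprime (orderOf u) :=
    Nat.Coprime.coprime_dvd_right (orderOf_dvd_of_pow_eq_one hu) (Nat.Coprime.pow_right _
      ((hp.out.coprime_iff_not_dvd.2 fun h => (hp.out.dvd_mul.1 h).elim hpm hs).symm))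
  obtain ⟨j, hj⟩ := exists_pow_eq_self_of_coprime h1
  have h2 := (hm.pow_left (orderOf s)).pow_left j
  rw [← pow_mul _ m, hc.mul_pow, mul_comm m, pow_mul s, pow_orderOf_eq_one, one_pow, mul_one,
    mul_comm _ m, hj] at h2
  exact hh h2

theorem conj_perm_pow (g : G) (m : ℕ) (x : G) :
    ((MulAut.conj g).toEquiv ^ m) x = g ^ m * x * (g ^ m)⁻¹ := by
  induction m with
  | zero => simp
  | succ m ih => rw [pow_succ', Equiv.Perm.mul_apply, ih, pow_succ']; simp [mul_assoc]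

theorem dvd_of_conj_perm_pow {u s h : G} {k m : ℕ} (hu : u ^ p ^ k = 1) (hs : ¬ p ∣ orderOf s)
    (hc : Commute u s) (hh : h ∉ 𝐂[u]) (hm : ((MulAut.conj (u * s)).toEquiv ^ m) h = h) : p ∣ m :=
  dvd_of_commute_pow hu hs hc (mul_inv_eq_iff_eq_mul.1 ((conj_perm_pow _ _ _).symm.trans hm))
    fun e => hh (mem_centralizer_singleton_iff.2 e.symm)

section
variable [Fintype G]

theorem weak_orth_of_zi {B : Finset (G → ℂ)} (hB : B ⊆ Irr H) (hi : ZI p H (ind B)) (hx : x ∈ H)
    (hy : y ∈ H) (hxp : ¬ p ∣ orderOf x) (hyp : p ∣ orderOf y) :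
    ∑ χ ∈ B, χ x * conj (χ y) = 0 := by
  classical
  set e := zf H (ind B) with he
  have heH : e ∈ CF H := zf_mem_CF _ _
  let σ : Equiv.Perm G := (Equiv.mulLeft y).trans (Equiv.mulRight x⁻¹)
  have hσ : ∀ (m : ℕ) g, (σ ^ m) g = y ^ m * g * (x ^ m)⁻¹ := fun m g => by
    induction m with
    | zero => simp
    | succ m ih => rw [pow_succ', Equiv.Perm.mul_apply, ih, pow_succ', pow_succ']; simp [σ, mul_assoc]
  obtain ⟨ε, κ, hε, hκ, hκσ⟩ := exists_twist (p := p) σ
  replace hκσ : ∀ g, κ (σ g) = ε * κ g := fun g => hκσ g fun m hm => by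
    rw [hσ, mul_inv_eq_iff_eq_mul, ← eq_mul_inv_iff_mul_eq] at hm
    have h1 : y ^ (m * orderOf x) = 1 := by
      rw [pow_mul, hm, conj_pow, ← pow_mul, mul_comm m, pow_mul, pow_orderOf_eq_one]; simp
    exact (hp.out.dvd_mul.1 (hyp.trans (orderOf_dvd_of_pow_eq_one h1))).resolve_right hxp
  let D : Matrix G G ℂ := Matrix.diagonal (cf1 H)
  have hDE : D * Lm e = Lm e * D := by
    ext i j
    simp only [D, Matrix.diagonal_mul, Matrix.mul_diagonal, Lm]
    by_cases h : i * j⁻¹ ∈ H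
    · by_cases hj : j ∈ H
      · rw [cf1E hj, cf1E (by simpa using H.mul_mem h hj), mul_comm]
      · rw [cf1_of_not_mem hj, cf1_of_not_mem fun hi => hj (by
          simpa using H.mul_mem (H.inv_mem h) hi), mul_comm]
    · simp [cfun0 heH h]
  have hP : Lm e * D * (Lm e * D) = Lm e * D := by
    rw [mul_assoc, ← mul_assoc D, hDE, mul_assoc, ← mul_assoc, Lm_mul, he, ← zf_mul, ind_mul_self,
      Matrix.diagonal_mul_diagonal]
    congr 2
    exact cf1_mul (cf1_mem_CF H)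
  have hPi : MInt p (Lm e * D) := fun i j => by
    simp only [D, Matrix.mul_diagonal, Lm]
    exact (hi _).mul (pInt_of_isIntegral (Aint_char (isChar_cf1 H) j))
  have h0 := trace_eq_zero (p := p) (U := σ.toPEquiv.toMatrix) (X := Matrix.diagonal κ) (Q := 1) hP
    (by
      rw [PEquiv.toMatrix_toPEquiv_mul, PEquiv.mul_toMatrix_toPEquiv]
      ext i j
      obtain ⟨j, rfl⟩ := σ.surjective j
      simp only [D, Matrix.submatrix_apply, id, Equiv.symm_apply_apply, Matrix.mul_diagonal, Lm]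
      rw [show σ i * (σ j)⁻¹ = y * (i * j⁻¹) * y⁻¹ by simp [σ, mul_assoc], cfunJ heH hy]
      congr 1
      by_cases hj : j ∈ H
      · rw [cf1E hj, cf1E (x := σ j) (H.mul_mem (H.mul_mem hy hj) (H.inv_mem hx))]
      · rw [cf1_of_not_mem hj, cf1_of_not_mem fun h => hj ?_]
        simpa [σ, mul_assoc] using H.mul_mem (H.mul_mem (H.inv_mem hy) h) hx)
    (by simp) (by simp) hε
    (by
      ext i j
      rw [PEquiv.toMatrix_toPEquiv_mul]
      simp only [Matrix.submatrix_apply, id, Matrix.smul_apply, Matrix.diagonal_mul,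
        Matrix.diagonal_apply, PEquiv.toMatrix_toPEquiv_apply, Pi.single_apply, hκσ, smul_eq_mul]
      by_cases h : σ i = j <;> simp [h, eq_comm (a := j)])
    (by
      rw [show Lm e * D * Matrix.diagonal κ * (Lm e * D) - Lm e * D =
        Lm e * D * (Matrix.diagonal κ - 1) * (Lm e * D) by rw [mul_sub, sub_mul, mul_one, hP]]
      refine (hPi.mul_mSm fun i j => ?_).mul_mInt hPi
      by_cases h : i = j
      · subst h; simpa using hκ i
      · simpa [h] using pSm_zero)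
  rw [mul_one, PEquiv.toMatrix_toPEquiv_mul] at h0
  simp only [Matrix.trace, Matrix.diag, D, Matrix.submatrix_apply, id, Matrix.mul_diagonal, Lm] at h0
  rw [← sum_elts_eq_univ (H := H) fun i hi => by rw [cf1_of_not_mem hi, mul_zero]] at h0
  rw [Finset.sum_congr rfl fun i hi => by rw [cf1E (mem_elts.1 hi), mul_one, he, zf_apply],
    ← Finset.mul_sum, Finset.sum_comm, Finset.mul_sum,
    ← Finset.sum_subset hB fun χ _ h => by simp [ind_of_not_mem h]] at h0
  rw [← h0]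
  refine Finset.sum_congr rfl fun χ hχ => ?_
  have hχ' := mem_Irr.1 (hB hχ)
  have h1 := congrArg conj (sum_conj_mul hχ' (H.inv_mem hx) y)
  rw [map_mul, map_sum, ← char_inv hχ'.isChar 1, inv_one, map_mul, map_mul, char_inv hχ'.isChar x,
    Complex.conj_conj, Complex.conj_natCast] at h1
  rw [ind_of_mem hχ, one_mul, ← Finset.mul_sum, Finset.sum_congr rfl fun i _ => by
    rw [show σ i * i⁻¹ = y * (i * x⁻¹ * i⁻¹) by simp [σ, mul_assoc], cfun_mul_comm hχ'.mem_CF hy],
    h1, mul_assoc, inv_mul_cancel_left₀ (cardC_ne_zero H)]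

end

/-- the `p`-regular elements of `H` -/
def Reg (p : ℕ) (H : Subgroup G) : Set G := {x | x ∈ H ∧ ¬ p ∣ orderOf x}

omit hp in
theorem mem_Reg : x ∈ Reg p H ↔ x ∈ H ∧ ¬ p ∣ orderOf x := Iff.rfl
omit hp in
theorem Reg_subset : Reg p H ⊆ H := fun _ h => h.1
omit hp in
theorem conj_mem_Reg {g : G} (hg : g ∈ H) : g * x * g⁻¹ ∈ Reg p H ↔ x ∈ Reg p H := by
  rw [mem_Reg, mem_Reg, orderOf_conj, H.mul_mem_cancel_right (H.inv_mem hg),
    H.mul_mem_cancel_left hg]
omit hp in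
theorem inv_mem_Reg : x⁻¹ ∈ Reg p H ↔ x ∈ Reg p H := by
  rw [mem_Reg, mem_Reg, orderOf_inv, inv_mem_iff]
theorem one_mem_Reg : (1 : G) ∈ Reg p H := ⟨H.one_mem, by simpa using hp.out.ne_one⟩

variable [Finite G]

theorem not_dvd_card_Reg (H : Subgroup G) : ¬ p ∣ (elts (Reg p H)).card := by
  classical
  induction hn : ♯H using Nat.strong_induction_on generalizing H with
  | _ n ih =>
  by_cases h : ∃ u ∈ H, (∃ k, u ^ p ^ k = 1) ∧ ¬ H ≤ 𝐂[u]
  · obtain ⟨u, hu, ⟨k, hk⟩, hC⟩ := h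
    have h1 := ih _ (hn ▸ Coprime.card_lt_of_lt (inf_lt_left.2 hC)) (H ⊓ 𝐂[u]) rfl
    have h2 := pSm_sum_of_invariant (p := p) (MulAut.conj u).toEquiv
      (s := elts (Reg p H \ 𝐂[u])) (F := fun _ => 1) (fun x => by
        simp only [mem_elts, Set.mem_sdiff, MulEquiv.toEquiv_eq_coe, EquivLike.coe_coe,
          MulAut.conj_apply, conj_mem_Reg hu, SetLike.mem_coe]
        rw [(𝐂[u]).mul_mem_cancel_right (inv_mem (mem_centralizer_singleton_iff.2 rfl)),
          (𝐂[u]).mul_mem_cancel_left (mem_centralizer_singleton_iff.2 rfl)])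
      (fun x hx m hm => dvd_of_conj_perm_pow (s := 1) hk (by simpa using hp.out.ne_one)
        (Commute.one_right u) (mem_elts.1 hx).2 (by rwa [mul_one])) (fun _ _ => rfl)
      fun _ _ => pInt_one
    rw [Finset.sum_const, nsmul_eq_mul, mul_one, pSm_natCast] at h2
    have h3 : elts (Reg p H) = elts (Reg p (H ⊓ 𝐂[u])) ∪ elts (Reg p H \ 𝐂[u]) := by
      ext x; simp only [Finset.mem_union, mem_elts, Set.mem_sdiff, mem_Reg, mem_inf, SetLike.mem_coe]
      tauto
    rw [h3, Finset.card_union_of_disjoint (Finset.disjoint_left.2 fun x h h' =>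
      (mem_elts.1 h').2 (mem_elts.1 h).1.2)]
    exact fun h => h1 ((Nat.dvd_add_left h2).1 h)
  · push Not at h
    obtain ⟨P⟩ : Nonempty (Sylow p H) := inferInstance
    have h1 := Transfer.burnside_of_normalizer_le_centralizer P fun g _ => mem_centralizer_iff.2
      fun a ha => by
        obtain ⟨k, hk⟩ := P.isPGroup' ⟨a, ha⟩
        exact Subtype.ext (mem_centralizer_singleton_iff.1
          (h a a.2 ⟨k, by simpa using congrArg (fun x => x.1.1) hk⟩ g.2)).symm
    have h2 : Reg p H = ((pResidual p H).map H.subtype : Subgroup G) := by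
      ext x
      constructor
      · intro hx
        exact ⟨⟨x, hx.1⟩, Transfer.mem_pResidual_of_coprime (by
          rw [← orderOf_coe]; exact (hp.out.coprime_iff_not_dvd.2 hx.2).symm), rfl⟩
      · rintro ⟨x, hx, rfl⟩
        exact ⟨x.2, hp.out.coprime_iff_not_dvd.1 (by
          rw [coe_subtype, orderOf_coe]
          exact (Transfer.coprime_orderOf_of_mem_pResidual h1 hx).symm)⟩
    rw [h2, card_elts, card_subtype]
    exact Transfer.hasNormalPComplement_iff_not_dvd_pResidual.1 h1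

open Classical in
/-- the principal `p`-block of `H` -/
noncomputable def B0 (p : ℕ) (H : Subgroup G) : Finset (G → ℂ) :=
  (Irr H).filter fun χ => ∑ x ∈ elts (Reg p H), χ x ≠ 0

omit hp in
theorem mem_B0 : χ ∈ B0 p H ↔ IsIrr H χ ∧ ∑ x ∈ elts (Reg p H), χ x ≠ 0 := by simp [B0]
omit hp in
theorem B0_subset : B0 p H ⊆ Irr H := fun _ h => mem_Irr.2 (mem_B0.1 h).1
omit hp in
theorem isIrr_of_mem_B0 (h : χ ∈ B0 p H) : IsIrr H χ := (mem_B0.1 h).1

/-- characteristic function of the `p`-regular elements -/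
noncomputable def regInd (p : ℕ) (H : Subgroup G) : G → ℂ := (Reg p H).indicator (cf1 H)

omit hp in
theorem regInd_of_mem (h : x ∈ Reg p H) : regInd p H x = 1 := by
  rw [regInd, Set.indicator_of_mem h, cf1E h.1]
omit hp [Finite G] in
theorem regInd_of_not_mem (h : x ∉ Reg p H) : regInd p H x = 0 := Set.indicator_of_notMem h _
omit hp in
theorem regInd_mem_CF : regInd p H ∈ CF H :=
  (indicator_mem_CF Reg_subset (fun _ hg _ ha => (conj_mem_Reg hg).2 ha) (cf1_mem_CF H)).1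
omit hp in
theorem regInd_pInt (x : G) : PInt p (regInd p H x) := by
  by_cases h : x ∈ Reg p H
  · rw [regInd_of_mem h]; exact pInt_one
  · rw [regInd_of_not_mem h]; exact pInt_zero
omit hp in
theorem sum_regInd_mul (F : G → ℂ) :
    ∑ x ∈ elts (H : Set G), regInd p H x * F x = ∑ x ∈ elts (Reg p H), F x := by
  rw [← sum_elts_subset Reg_subset fun x _ hx => by rw [regInd_of_not_mem hx, zero_mul]]
  exact Finset.sum_congr rfl fun x hx => by rw [regInd_of_mem (mem_elts.1 hx), one_mul]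

section
variable [Fintype G]

omit hp in
theorem om_regInd (χ : G → ℂ) : om H χ (regInd p H) = (∑ x ∈ elts (Reg p H), χ x) / χ 1 := by
  rw [om, sum_regInd_mul]

omit hp in
theorem om_cf1_regInd : om H (cf1 H) (regInd p H) = (elts (Reg p H)).card := by
  rw [om_regInd, cf1_one, div_one, Finset.sum_congr rfl fun x hx => cf1E (mem_elts.1 hx).1]
  simp

theorem B0_eq_blk : B0 p H = blk p H (cf1 H) := by
  classical
  ext χ
  rw [mem_B0]
  constructor
  · rintro ⟨hχ, h0⟩
    by_contra h1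
    set B := Irr H \ blk p H (cf1 H) with hB
    have hBi : ZI p H (ind B) := (zi_one.sub (zi_ind_blk p H (cf1 H))).congr fun ψ hψ => by
      by_cases h : ψ ∈ blk p H (cf1 H)
      · simp [ind_of_mem h, ind_of_not_mem (show ψ ∉ B by simp [hB, h])]
      · simp [ind_of_not_mem h, ind_of_mem (show ψ ∈ B by simp [hB, h, hψ])]
    have hS : ∀ ψ ∈ B, IsIrr H ψ := fun ψ h => mem_Irr.1 (Finset.mem_sdiff.1 h).1
    set θ := ∑ ψ ∈ B, ⟪regInd p H, ψ⟫[H] • ψ with hθ
    have h2 : ∀ y ∈ H, y ∉ Reg p H → θ y = 0 := fun y hy hy' => by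
      have h3 : ∀ x ∈ elts (Reg p H), ∑ ψ ∈ B, conj (ψ x) * ψ y = 0 := fun x hx => by
        have := congrArg conj (weak_orth_of_zi Finset.sdiff_subset hBi (mem_elts.1 hx).1 hy
          (mem_elts.1 hx).2 (not_not.1 fun h => hy' ⟨hy, h⟩))
        simpa using this
      simp only [hθ, Finset.sum_apply, Pi.smul_apply, smul_eq_mul, cfdotE, sum_regInd_mul,
        Finset.sum_mul, mul_assoc, ← Finset.mul_sum]
      rw [Finset.sum_comm, Finset.sum_eq_zero h3, mul_zero]
    have h3 : ⟪θ, θ⟫[H] = 0 := by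
      have h4 : ⟪θ, θ⟫[H] = ⟪θ, regInd p H⟫[H] := by
        nth_rw 1 [hθ]
        nth_rw 2 [hθ]
        simp only [cfdot_suml, cfdotZl]
        refine Finset.sum_congr rfl fun ψ hψ => ?_
        rw [cfdotC ψ θ, cfdot_sum_smul_irr hS _ hψ, conj_cfdot]
      have h5 : ⟪θ, regInd p H⟫[H] = ⟪θ, cf1 H⟫[H] := by
        simp only [cfdotE]
        refine congrArg _ (Finset.sum_congr rfl fun y hy => ?_)
        by_cases h : y ∈ Reg p H
        · rw [regInd_of_mem h, cf1E h.1]
        · rw [h2 y (mem_elts.1 hy) h, zero_mul, zero_mul]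
      rw [h4, h5, cfdot_sum_smul_irr_of_not_mem hS _ (isIrr_cf1 H)]
      exact fun h => (Finset.mem_sdiff.1 h).2 (mem_blk.2 ⟨isIrr_cf1 H, fun _ _ => by
        simpa using pSm_zero⟩)
    have h4 : ⟪θ, χ⟫[H] = _ := cfdot_sum_smul_irr hS (fun ψ => ⟪regInd p H, ψ⟫[H])
      (Finset.mem_sdiff.2 ⟨mem_Irr.2 hχ, h1⟩)
    rw [show θ = 0 from (cfdot_self_eq0 (sum_smul_irr_mem_CF hS _)).1 h3, cfdot0l, cfdotE, sum_regInd_mul,
      ← map_sum, eq_comm, mul_eq_zero, map_eq_zero] at h4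
    exact h0 (h4.resolve_left (inv_ne_zero (cardC_ne_zero H)))
  · intro h
    refine ⟨(mem_blk.1 h).1, fun h0 => ?_⟩
    have := (mem_blk.1 h).2 _ (zi_om regInd_mem_CF regInd_pInt)
    rw [om_cf1_regInd, om_regInd, h0, zero_div, zero_sub] at this
    exact not_dvd_card_Reg H (pSm_natCast.1 (by simpa using this.neg))

theorem zi_ind_B0 : ZI p H (ind (B0 p H)) := B0_eq_blk (p := p) (H := H) ▸ zi_ind_blk p H _

end

theorem cf1_mem_B0 : cf1 H ∈ B0 p H := by
  have := Fintype.ofFinite G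
  exact B0_eq_blk (p := p) (H := H) ▸ mem_blk.2 ⟨isIrr_cf1 H, fun _ _ => by simpa using pSm_zero⟩

/-- central characters of the principal block -/
theorem pSm_central_of_mem_B0 (hχ : χ ∈ B0 p H) (hf : f ∈ CF H) (hi : ∀ x, PInt p (f x)) :
    PSm p ((∑ x ∈ elts (H : Set G), f x * χ x) / χ 1 - ∑ x ∈ elts (H : Set G), f x) := by
  have := Fintype.ofFinite G
  rw [B0_eq_blk] at hχ
  have := (mem_blk.1 hχ).2 _ (zi_om hf hi)
  rwa [om_cf1] at this

/-- weak block orthogonality -/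
theorem weak_orth (hx : x ∈ Reg p H) (hy : y ∈ H) (hyp : p ∣ orderOf y) :
    ∑ χ ∈ B0 p H, χ x * conj (χ y) = 0 := by
  have := Fintype.ofFinite G
  exact weak_orth_of_zi B0_subset zi_ind_B0 hx.1 hy hx.2 hyp

theorem weak_orth' (hx : x ∈ Reg p H) (hy : y ∈ H) (hyp : p ∣ orderOf y) :
    ∑ χ ∈ B0 p H, χ y * conj (χ x) = 0 := by
  simpa [mul_comm] using congrArg conj (weak_orth hx hy hyp)

omit [Finite G] in
theorem mul_mem_Reg (hN : N ⊴ H) (hNp : ¬ p ∣ ♯N) (hx : x ∈ Reg p H) (hy : y ∈ N) :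
    y * x ∈ Reg p H := by
  refine ⟨H.mul_mem (hN.1 hy) hx.1, fun h => ?_⟩
  have h1 : ∀ m : ℕ, (y * x) ^ m * (x ^ m)⁻¹ ∈ N := fun m => by
    induction m with
    | zero => simp
    | succ m ih =>
      have := N.mul_mem hy ((mem_normalizer_iff.1 (hN.2 hx.1) _).1 ih)
      rw [pow_succ', pow_succ']
      simpa [mul_assoc] using this
  have h2 := h1 (orderOf x)
  rw [pow_orderOf_eq_one, inv_one, mul_one] at h2
  have h3 : (y * x) ^ (orderOf x * ♯N) = 1 := by
    rw [pow_mul]; exact orderOf_dvd_iff_pow_eq_one.1 (Subgroup.orderOf_dvd_natCard N h2)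
  exact (hp.out.dvd_mul.1 (h.trans (orderOf_dvd_of_pow_eq_one h3))).elim hx.2 hNp

/-- normal `p'`-subgroups lie in the kernel of the principal block -/
theorem le_cfker_of_mem_B0 (hχ : χ ∈ B0 p H) (hN : N ⊴ H) (hNp : ¬ p ∣ ♯N) : N ≤ cfker H χ := by
  have := Fintype.ofFinite G
  by_contra h
  obtain ⟨h1, h2⟩ := mem_B0.1 hχ
  have h3 : ∀ F : G → ℂ, ∑ y ∈ elts (H : Set G), cf1 N y * F y = ∑ y ∈ elts (N : Set G), F y :=
    fun F => by
      rw [← sum_elts_subset hN.1 fun y _ hy => by rw [cf1_of_not_mem hy, zero_mul]]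
      exact Finset.sum_congr rfl fun y hy => by rw [cf1E (mem_elts.1 hy), one_mul]
  have h4 : ∀ x, ∑ y ∈ elts (N : Set G), χ (y * x) = 0 := fun x => by
    rw [← h3 fun y => χ (y * x), sum_mul_irr h1 (cf1_mem_CF_of_normal hN), om, h3,
      h1.sum_eq_zero_of_not_cfker hN h, zero_div, zero_mul]
  have h5 : ∑ y ∈ elts (N : Set G), ∑ x ∈ elts (Reg p H), χ (y * x) = 0 := by
    rw [Finset.sum_comm]; exact Finset.sum_eq_zero fun x _ => h4 x
  have h6 : ∀ y ∈ elts (N : Set G), ∑ x ∈ elts (Reg p H), χ (y * x) = ∑ x ∈ elts (Reg p H), χ x :=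
    fun y hy => sum_elts_equiv (Equiv.mulLeft y) (fun x =>
      ⟨fun hx => mul_mem_Reg hN hNp hx (mem_elts.1 hy), fun hx => by
        simpa using mul_mem_Reg hN hNp hx (N.inv_mem (mem_elts.1 hy))⟩) χ
  rw [Finset.sum_congr rfl h6, sum_elts_const, nsmul_eq_mul] at h5
  exact h2 ((mul_eq_zero.1 h5).resolve_left (cardC_ne_zero N))

end Cfsg.Agent.Blk
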