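import Cfsg.Agent.Lib.Blk.Val
import Cfsg.Agent.Lib.OO.CF7

/-!
# Blocks, part 2: central characters and block idempotents
-/

set_option autoImplicit false

namespace Cfsg.Agent.Blk

open Subgroup Cfsg.Agent.OO
open scoped ComplexConjugate

universe u

variable {G : Type u} [Group G] [Fintype G] {p : ℕ} {H : Subgroup G} {a b f g χ : G → ℂ}
  {w w' : (G → ℂ) → ℂ}

theorem sum_elts_eq_univ {F : G → ℂ} (h : ∀ x, x ∉ H → F x = 0) :
    ∑ x ∈ elts (H : Set G), F x = ∑ x, F x :=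
  Finset.sum_subset (Finset.subset_univ _) fun x _ hx => h x (by simpa using hx)

/-- convolution -/
noncomputable def conv (a b : G → ℂ) : G → ℂ := fun x => ∑ y, a y * b (y⁻¹ * x)

theorem conv_eq (a b : G → ℂ) (x : G) : conv a b x = ∑ t, a (x * t⁻¹) * b t :=
  (Fintype.sum_equiv ((Equiv.inv G).trans (Equiv.mulLeft x)) _ _ fun t => by simp).symm

/-- matrix of left multiplication -/
def Lm (a : G → ℂ) : Matrix G G ℂ := fun x y => a (x * y⁻¹)

theorem Lm_mul (a b : G → ℂ) : Lm a * Lm b = Lm (conv a b) := by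
  ext x z
  rw [Matrix.mul_apply, Lm, conv_eq]
  exact (Fintype.sum_equiv (Equiv.mulRight z) _ _ fun t => by simp [Lm, mul_assoc]).symm

omit [Fintype G] in
theorem Lm_inj (h : Lm a = Lm b) : a = b := funext fun x => by
  simpa [Lm] using congrFun (congrFun h x) 1

theorem conv_assoc (a b c : G → ℂ) : conv (conv a b) c = conv a (conv b c) :=
  Lm_inj (by simp only [← Lm_mul, mul_assoc])

theorem trace_Lm (a : G → ℂ) : (Lm a).trace = Fintype.card G * a 1 := by
  simp [Matrix.trace, Lm]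

theorem conv_comm (hf : f ∈ CF H) (ha : a ∈ suppOn (H : Set G)) : conv f a = conv a f := by
  ext x
  rw [conv_eq]
  refine Finset.sum_congr rfl fun t _ => ?_
  by_cases ht : t ∈ H
  · rw [mul_comm, cfun_mul_comm hf (H.inv_mem ht)]
  · simp [ha t ht]

theorem conv_mem_suppOn (ha : a ∈ suppOn (H : Set G)) (hb : b ∈ suppOn (H : Set G)) :
    conv a b ∈ suppOn (H : Set G) := fun x hx => Finset.sum_eq_zero fun y _ => by
  by_cases hy : y ∈ H
  · rw [hb _ fun h => hx (by simpa using H.mul_mem hy h), mul_zero]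
  · rw [ha y hy, zero_mul]

theorem conv_conj {h : G} (ha : ∀ x, a (h * x * h⁻¹) = a x) (hb : ∀ x, b (h * x * h⁻¹) = b x)
    (x : G) : conv a b (h * x * h⁻¹) = conv a b x :=
  (Fintype.sum_equiv (MulAut.conj h).toEquiv _ _ fun y => by
    rw [← ha y, ← hb (y⁻¹ * x)]; simp [mul_assoc]).symm

theorem conv_mem_CF (hf : f ∈ CF H) (hg : g ∈ CF H) : conv f g ∈ CF H :=
  ⟨conv_mem_suppOn hf.1 hg.1, fun _ hh => conv_conj (cfunJ hf hh) (cfunJ hg hh)⟩

theorem conv_single [DecidableEq G] (y : G) (b : G → ℂ) (x : G) :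
    conv (Pi.single y 1) b x = b (y⁻¹ * x) := by
  simp [conv, Pi.single_apply]

theorem conv_single_right [DecidableEq G] (a : G → ℂ) (y : G) (x : G) :
    conv a (Pi.single y 1) x = a (x * y⁻¹) := by
  simp [conv_eq, Pi.single_apply]

theorem conv_pInt (ha : ∀ x, PInt p (a x)) (hb : ∀ x, PInt p (b x)) (x : G) : PInt p (conv a b x) :=
  pInt_sum fun _ _ => (ha _).mul (hb _)
theorem conv_pSm_left (ha : ∀ x, PSm p (a x)) (hb : ∀ x, PInt p (b x)) (x : G) :
    PSm p (conv a b x) := pSm_sum fun _ _ => (ha _).mul_pInt (hb _)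

/-- the central character of `χ` -/
noncomputable def om (H : Subgroup G) (χ f : G → ℂ) : ℂ :=
  (∑ x ∈ elts (H : Set G), f x * χ x) / χ 1

theorem sum_mul_irr (hχ : IsIrr H χ) (hf : f ∈ CF H) (y : G) :
    ∑ x ∈ elts (H : Set G), f x * χ (x * y) = om H χ f * χ y := by
  rw [om, div_mul_eq_mul_div, ← irr_conv hχ hf, mul_div_cancel_left₀ _ (irr1_neq0 hχ)]

theorem sum_mul_irr' (hχ : IsIrr H χ) (hf : f ∈ CF H) (y : G) :
    ∑ x, f x * χ (y * x) = om H χ f * χ y := by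
  rw [← sum_mul_irr hχ hf, ← sum_elts_eq_univ (H := H) fun x hx => by rw [cfun0 hf hx, zero_mul]]
  exact Finset.sum_congr rfl fun x hx => by rw [cfun_mul_comm hχ.mem_CF (mem_elts.1 hx)]

theorem om_mul (hχ : IsIrr H χ) (f : G → ℂ) : om H χ f * χ 1 = ∑ x, f x * χ x := by
  rw [om, div_mul_cancel₀ _ (irr1_neq0 hχ),
    sum_elts_eq_univ fun x hx => by rw [cfun0 hχ.mem_CF hx, mul_zero]]

theorem om_pInt (hχ : IsIrr H χ) (hf : f ∈ CF H) (hi : ∀ x, PInt p (f x)) : PInt p (om H χ f) :=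
  (val_le_of_eigen (σ := fun x y => x * y) hχ.ne_zero (sum_mul_irr hχ hf)).1 fun x _ => hi x

theorem om_pSm (hχ : IsIrr H χ) (hf : f ∈ CF H) (hi : ∀ x, PSm p (f x)) : PSm p (om H χ f) :=
  (val_le_of_eigen (σ := fun x y => x * y) hχ.ne_zero (sum_mul_irr hχ hf)).2 fun x _ => hi x

theorem sum_conv_mul (hχ : IsIrr H χ) (a : G → ℂ) (hf : f ∈ CF H) :
    ∑ x, conv a f x * χ x = (∑ x, a x * χ x) * om H χ f := by
  simp only [conv, Finset.sum_mul]
  rw [Finset.sum_comm]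
  refine Finset.sum_congr rfl fun y _ => ?_
  rw [mul_assoc, mul_comm (χ y), ← sum_mul_irr' hχ hf, Finset.mul_sum]
  exact (Fintype.sum_equiv (Equiv.mulLeft y) _ _ fun t => by simp [mul_assoc]).symm

theorem om_conv (hχ : IsIrr H χ) (a : G → ℂ) (hf : f ∈ CF H) :
    om H χ (conv a f) = om H χ a * om H χ f := by
  refine mul_right_cancel₀ (irr1_neq0 hχ) ?_
  rw [om_mul hχ, sum_conv_mul hχ a hf, ← om_mul hχ]; ring

theorem om_sub (χ a b : G → ℂ) : om H χ (a - b) = om H χ a - om H χ b := by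
  simp only [om, Pi.sub_apply, sub_mul, Finset.sum_sub_distrib, sub_div]

theorem om_cf1 (f : G → ℂ) : om H (cf1 H) f = ∑ x ∈ elts (H : Set G), f x := by
  rw [om, cf1_one, div_one]
  exact Finset.sum_congr rfl fun x hx => by rw [cf1E (mem_elts.1 hx), mul_one]

theorem eq_of_om (hf : f ∈ CF H) (hg : g ∈ CF H) (h : ∀ χ, IsIrr H χ → om H χ f = om H χ g) :
    f = g := by
  refine cfun_ext_irr hf hg fun χ hχ => ?_
  have := h _ hχ.star
  rw [om, om, div_left_inj' (irr1_neq0 hχ.star)] at this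
  simp only [cfdotE]
  exact congrArg _ this

/-- the central element of `ℂ H` with prescribed central character values -/
noncomputable def zf (H : Subgroup G) (w : (G → ℂ) → ℂ) : G → ℂ :=
  (♯H : ℂ)⁻¹ • ∑ χ ∈ Irr H, (w χ * χ 1) • star χ

theorem zf_apply (H : Subgroup G) (w : (G → ℂ) → ℂ) (x : G) :
    zf H w x = (♯H : ℂ)⁻¹ * ∑ χ ∈ Irr H, w χ * χ 1 * conj (χ x) := by
  simp [zf, Finset.sum_apply]

theorem zf_mem_CF (H : Subgroup G) (w : (G → ℂ) → ℂ) : zf H w ∈ CF H :=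
  Submodule.smul_mem _ _ (Submodule.sum_mem _ fun _ hχ =>
    Submodule.smul_mem _ _ (mem_Irr.1 hχ).star.mem_CF)

theorem om_zf (hχ : IsIrr H χ) (w : (G → ℂ) → ℂ) : om H χ (zf H w) = w χ := by
  have h1 : ∑ x ∈ elts (H : Set G), zf H w x * χ x = ♯H * ⟪zf H w, star χ⟫[H] := by
    rw [cfdotE, mul_inv_cancel_left₀ (cardC_ne_zero H)]; simp
  rw [om, h1, zf, cfdotZl, mul_inv_cancel_left₀ (cardC_ne_zero H), cfdot_suml,
    Finset.sum_eq_single χ, cfdotZl, cfdot_irr_self hχ.star, mul_one,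
    mul_div_cancel_right₀ _ (irr1_neq0 hχ)]
  · intro ψ hψ hne
    rw [cfdotZl, cfdot_irr_ne (mem_Irr.1 hψ).star hχ.star (star_injective.ne hne), mul_zero]
  · exact fun h => absurd (mem_Irr.2 hχ) h

theorem zf_eq (hf : f ∈ CF H) (h : ∀ χ, IsIrr H χ → om H χ f = w χ) : zf H w = f :=
  eq_of_om (zf_mem_CF H w) hf fun χ hχ => by rw [om_zf hχ, h χ hχ]

theorem zf_congr (h : ∀ χ, IsIrr H χ → w χ = w' χ) : zf H w = zf H w' :=
  zf_eq (zf_mem_CF H w') fun χ hχ => by rw [om_zf hχ, h χ hχ]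

theorem zf_mul (w w' : (G → ℂ) → ℂ) : zf H (w * w') = conv (zf H w) (zf H w') :=
  zf_eq (conv_mem_CF (zf_mem_CF H w) (zf_mem_CF H w')) fun χ hχ => by
    rw [om_conv hχ _ (zf_mem_CF H w'), om_zf hχ, om_zf hχ, Pi.mul_apply]

theorem zf_sub (w w' : (G → ℂ) → ℂ) : zf H (w - w') = zf H w - zf H w' := by
  simp only [zf, Pi.sub_apply, sub_mul, sub_smul, Finset.sum_sub_distrib, smul_sub]

theorem zf_smul (c : ℂ) (w : (G → ℂ) → ℂ) : zf H (c • w) = c • zf H w := by
  ext x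
  simp only [zf_apply, Pi.smul_apply, smul_eq_mul, Finset.mul_sum, mul_assoc, mul_left_comm c]

omit [Fintype G] in
theorem single_one_mem_CF [DecidableEq G] (H : Subgroup G) : (Pi.single 1 1 : G → ℂ) ∈ CF H :=
  ⟨fun x hx => Pi.single_eq_of_ne (fun e : x = 1 => hx (e ▸ H.one_mem)) _, fun h _ x => by
    simp [Pi.single_apply, mul_inv_eq_iff_eq_mul]⟩

theorem zf_one [DecidableEq G] (H : Subgroup G) : zf H 1 = Pi.single 1 1 :=
  zf_eq (single_one_mem_CF H) fun χ hχ => mul_right_cancel₀ (irr1_neq0 hχ) (by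
    rw [om_mul hχ]; simp [Pi.single_apply])

/-- `w` is the list of central character values of an integral central element -/
def ZI (p : ℕ) (H : Subgroup G) (w : (G → ℂ) → ℂ) : Prop := ∀ x, PInt p (zf H w x)
/-- `w` is the list of central character values of a central element which is `0` modulo `p` -/
def ZS (p : ℕ) (H : Subgroup G) (w : (G → ℂ) → ℂ) : Prop := ∀ x, PSm p (zf H w x)

theorem ZS.zi (h : ZS p H w) : ZI p H w := fun x => (h x).pInt
theorem ZI.pInt (h : ZI p H w) (hχ : IsIrr H χ) : PInt p (w χ) :=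
  om_zf hχ w ▸ om_pInt hχ (zf_mem_CF H w) h
theorem ZS.pSm (h : ZS p H w) (hχ : IsIrr H χ) : PSm p (w χ) :=
  om_zf hχ w ▸ om_pSm hχ (zf_mem_CF H w) h
theorem ZI.congr (h : ZI p H w) (e : ∀ χ, IsIrr H χ → w χ = w' χ) : ZI p H w' := by
  unfold ZI; rwa [← zf_congr e]
theorem ZS.congr (h : ZS p H w) (e : ∀ χ, IsIrr H χ → w χ = w' χ) : ZS p H w' := by
  unfold ZS; rwa [← zf_congr e]
theorem ZI.sub (h : ZI p H w) (h' : ZI p H w') : ZI p H (w - w') := fun x => by
  rw [zf_sub]; exact (h x).sub (h' x)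
theorem ZS.sub (h : ZS p H w) (h' : ZS p H w') : ZS p H (w - w') := fun x => by
  rw [zf_sub]; exact (h x).sub (h' x)
theorem ZI.smul (h : ZI p H w) {c : ℂ} (hc : PInt p c) : ZI p H (c • w) := fun x => by
  rw [zf_smul]; exact hc.mul (h x)
theorem ZI.smul_pSm (h : ZI p H w) {c : ℂ} (hc : PSm p c) : ZS p H (c • w) := fun x => by
  rw [zf_smul]; exact hc.mul_pInt (h x)
theorem ZI.mul (h : ZI p H w) (h' : ZI p H w') : ZI p H (w * w') := fun x => by
  rw [zf_mul]; exact conv_pInt h h' x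
theorem ZS.mul (h : ZS p H w) (h' : ZI p H w') : ZS p H (w * w') := fun x => by
  rw [zf_mul]; exact conv_pSm_left h h' x
theorem zs_zero : ZS p H 0 := fun x => by simpa [zf_apply] using pSm_zero
theorem ZS.add (h : ZS p H w) (h' : ZS p H w') : ZS p H (w + w') := by
  simpa using h.sub (zs_zero.sub h')
theorem zi_one : ZI p H 1 := fun x => by
  classical
  rw [zf_one, Pi.single_apply]
  split_ifs
  exacts [pInt_one, pInt_zero]
theorem ZI.pow (h : ZI p H w) (n : ℕ) : ZI p H (w ^ n) := by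
  induction n with
  | zero => simpa using zi_one
  | succ n ih => rw [pow_succ]; exact ih.mul h
theorem zi_prod {ι : Type*} {s : Finset ι} {F : ι → (G → ℂ) → ℂ} (h : ∀ i ∈ s, ZI p H (F i)) :
    ZI p H (∏ i ∈ s, F i) := Finset.prod_induction F (ZI p H) (fun _ _ => ZI.mul) zi_one h
theorem zi_om (hf : f ∈ CF H) (hi : ∀ x, PInt p (f x)) : ZI p H fun χ => om H χ f := by
  unfold ZI; rwa [zf_eq hf fun _ _ => rfl]

theorem ZI.nilpotent (h : ZI p H w) (hs : ∀ χ, IsIrr H χ → PSm p (w χ)) :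
    ∃ n, ZS p H (w ^ (n + 1)) := by
  classical
  have key : ∀ s ⊆ Irr H, ZS p H (∏ χ ∈ s, (w - w χ • 1) - w ^ s.card) := by
    intro s
    induction s using Finset.induction_on with
    | empty => intro _; simpa using zs_zero
    | insert χ s hχ ih =>
      intro hs'
      have h1 := hs χ (mem_Irr.1 (hs' (Finset.mem_insert_self _ _)))
      have h2 := ((ih ((Finset.subset_insert _ _).trans hs')).mul
        (h.sub (zi_one.smul h1.pInt))).sub ((h.pow s.card).smul_pSm h1)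
      rw [Finset.prod_insert hχ, Finset.card_insert_of_notMem hχ]
      convert h2 using 1
      simp only [sub_mul, mul_sub, smul_mul_assoc, mul_smul_comm, one_mul, mul_one, pow_succ,
        mul_comm w, smul_sub]
      abel
  refine ⟨(Irr H).card, ?_⟩
  have h1 := (zs_zero.sub (key _ subset_rfl)).mul h
  refine h1.congr fun χ hχ => ?_
  have h2 : (∏ χ ∈ Irr H, (w - w χ • 1)) χ = 0 := by
    rw [Finset.prod_apply]
    exact Finset.prod_eq_zero (mem_Irr.2 hχ) (by simp)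
  simp only [Pi.mul_apply, Pi.sub_apply, h2, pow_succ]
  simp

theorem ZI.zs_of_idem (h : ZI p H w) (hs : ∀ χ, IsIrr H χ → PSm p (w χ))
    (hi : ZS p H (w * w - w)) : ZS p H w := by
  obtain ⟨n, hn⟩ := h.nilpotent hs
  induction n with
  | zero => simpa using hn
  | succ n ih =>
    refine ih ?_
    convert hn.sub (hi.mul (h.pow n)) using 1
    ring

/-- characteristic function of a set of characters -/
noncomputable def ind (B : Finset (G → ℂ)) : (G → ℂ) → ℂ := (B : Set (G → ℂ)).indicator 1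

omit [Group G] [Fintype G] in
theorem ind_of_mem {B : Finset (G → ℂ)} (h : χ ∈ B) : ind B χ = 1 :=
  Set.indicator_of_mem (Finset.mem_coe.2 h) _
omit [Group G] [Fintype G] in
theorem ind_of_not_mem {B : Finset (G → ℂ)} (h : χ ∉ B) : ind B χ = 0 :=
  Set.indicator_of_notMem (fun h' => h (Finset.mem_coe.1 h')) _
omit [Group G] [Fintype G] in
theorem ind_mul_self (B : Finset (G → ℂ)) : ind B * ind B = ind B := by
  ext χ; by_cases h : χ ∈ B <;> simp [ind, h]

open Classical in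
/-- the block of `χ` -/
noncomputable def blk (p : ℕ) (H : Subgroup G) (χ : G → ℂ) : Finset (G → ℂ) :=
  (Irr H).filter fun ψ => ∀ w, ZI p H w → PSm p (w ψ - w χ)

theorem mem_blk {ψ : G → ℂ} :
    ψ ∈ blk p H χ ↔ IsIrr H ψ ∧ ∀ w, ZI p H w → PSm p (w ψ - w χ) := by
  simp [blk]

/-- block idempotents are integral -/
theorem zi_ind_blk (p : ℕ) (H : Subgroup G) (χ : G → ℂ) : ZI p H (ind (blk p H χ)) := by
  classical
  have h1 : ∀ ψ : G → ℂ, ∃ w, ZI p H w ∧ (ψ ∈ Irr H \ blk p H χ → ¬ PSm p (w ψ - w χ)) := by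
    intro ψ
    by_cases h : ψ ∈ Irr H \ blk p H χ
    · have h2 := h
      rw [Finset.mem_sdiff, mem_blk, mem_Irr] at h2
      push Not at h2
      obtain ⟨w, hw, hw'⟩ := h2.2 h2.1
      exact ⟨w, hw, fun _ => hw'⟩
    · exact ⟨1, zi_one, fun h' => absurd h' h⟩
  choose W hW hW' using h1
  set y := ∏ ψ ∈ Irr H \ blk p H χ, (W ψ - W ψ ψ • 1) with hy
  have hyi : ZI p H y := zi_prod fun ψ hψ =>
    (hW ψ).sub (zi_one.smul ((hW ψ).pInt (mem_Irr.1 (Finset.mem_sdiff.1 hψ).1)))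
  have hy0 : ∀ ψ ∈ Irr H \ blk p H χ, y ψ = 0 := fun ψ hψ => by
    rw [hy, Finset.prod_apply]
    exact Finset.prod_eq_zero hψ (by simp)
  have hy1 : ∀ ξ ∈ blk p H χ, ¬ PSm p (y ξ) := fun ξ hξ => by
    rw [hy, Finset.prod_apply]
    refine not_pSm_prod fun ψ hψ h => hW' ψ hψ ?_
    simp only [Pi.sub_apply, Pi.smul_apply, Pi.one_apply, smul_eq_mul, mul_one] at h
    exact h.sub_comm.trans ((mem_blk.1 hξ).2 _ (hW ψ))
  have hc : ¬ PSm p (∏ ξ ∈ blk p H χ, -y ξ) :=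
    not_pSm_prod fun ξ hξ h => hy1 ξ hξ (by simpa using h.neg)
  have hci : PInt p (∏ ξ ∈ blk p H χ, -y ξ) :=
    pInt_prod fun ξ hξ => (hyi.pInt (mem_blk.1 hξ).1).neg
  have h2 : ZI p H (∏ ξ ∈ blk p H χ, (y - y ξ • 1)) := zi_prod fun ξ hξ =>
    hyi.sub (zi_one.smul (hyi.pInt (mem_blk.1 hξ).1))
  refine (zi_one.sub (h2.smul (hci.inv hc))).congr fun ψ hψ => ?_
  simp only [Pi.sub_apply, Pi.smul_apply, Pi.one_apply, smul_eq_mul, mul_one, Finset.prod_apply]
  by_cases h : ψ ∈ blk p H χ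
  · rw [ind_of_mem h, Finset.prod_eq_zero (f := fun ξ => y ψ - y ξ) h (sub_self _), mul_zero, sub_zero]
  · simp only [hy0 ψ (Finset.mem_sdiff.2 ⟨mem_Irr.2 hψ, h⟩), zero_sub]
    rw [inv_mul_cancel₀ (ne_zero_of_not_pSm hc), sub_self, ind_of_not_mem h]

end Cfsg.Agent.Blk
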