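import Cfsg.Agent.Lib.Blk.Weak
import Cfsg.Agent.Lib.Reg.FrobCount

/-!
# A weighted form of Frobenius' theorem
-/

set_option autoImplicit false

namespace Cfsg.Agent.Blk

open Subgroup Cfsg.Agent.OO Cfsg.Agent.Reg
open scoped ComplexConjugate

universe u

variable {G : Type u} [Group G] [Finite G] {p : ℕ} {H L U : Subgroup G} {φ : G → ℂ} {x : G}

theorem isIntegral_coset_sum (hφ : φ ∈ ZIrr H) (hU : U ≤ H) (hx : x ∈ H) (hn : x ∈ 𝐍(U)) :
    IsIntegral ℤ ((∑ u ∈ elts (U : Set G), φ (u * x)) / ♯U) := by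
  have := Fintype.ofFinite G
  have hK : U ⊔ zpowers x ≤ H := sup_le hU (zpowers_le.2 hx)
  have hN : U ⊴ U ⊔ zpowers x := ⟨le_sup_left, sup_le le_normalizer (zpowers_le.2 hn)⟩
  have hxK : x ∈ U ⊔ zpowers x := mem_sup_right (mem_zpowers x)
  rw [Finset.sum_congr rfl fun u hu =>
    (cfResE φ (mul_mem (hN.1 (mem_elts.1 hu)) hxK)).symm]
  refine Zspan.induction (P := fun ψ => IsIntegral ℤ ((∑ u ∈ elts (U : Set G), ψ (u * x)) / ♯U))
    (cfRes_vchar hK hφ) (by simpa using isIntegral_zero) (fun ψ hψ => ?_) fun a b _ _ ha hb => by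
      simpa [sub_div] using ha.sub hb
  replace hψ := mem_Irr.1 hψ
  by_cases h : U ≤ cfker (U ⊔ zpowers x) ψ
  · rw [Finset.sum_congr rfl fun u hu => cfkerMl (h (mem_elts.1 hu)) x, sum_elts_const, nsmul_eq_mul,
      mul_div_cancel_left₀ _ (cardC_ne_zero U)]
    exact Aint_char hψ.isChar x
  · have h3 : ∀ F : G → ℂ, ∑ y ∈ elts ((U ⊔ zpowers x : Subgroup G) : Set G), cf1 U y * F y =
        ∑ y ∈ elts (U : Set G), F y := fun F => by
      rw [← sum_elts_subset hN.1 fun y _ hy => by rw [cf1_of_not_mem hy, zero_mul]]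
      exact Finset.sum_congr rfl fun y hy => by rw [cf1E (mem_elts.1 hy), one_mul]
    rw [← h3 fun y => ψ (y * x), sum_mul_irr hψ (cf1_mem_CF_of_normal hN), om, h3,
      hψ.sum_eq_zero_of_not_cfker hN h]
    simpa using isIntegral_zero

theorem mem_normalizer_coreAt (L : Subgroup G) (x : G) : x ∈ 𝐍(coreAt L x) :=
  mem_normalizer_fintype fun _ => conj_mem_coreAt

omit [Finite G] in
theorem coreAt_conj {h : G} (hh : h ∈ L) (x v : G) :
    h * v * h⁻¹ ∈ coreAt L (h * x * h⁻¹) ↔ v ∈ coreAt L x :=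
  ⟨fun hv => by simpa [mul_assoc] using conj_mem_coreAt_conj (L.inv_mem hh) hv,
    conj_mem_coreAt_conj hh⟩

theorem isIntegral_sum_pow_eq_one (hφ : φ ∈ ZIrr H) (hL : L ≤ H) {n : ℕ} (hn : ♯L ∣ n) :
    IsIntegral ℤ ((∑ x ∈ elts {x | x ∈ H ∧ x ^ n = 1}, φ x) / ♯L) := by
  classical
  set X : Set G := {x | x ∈ H ∧ x ^ n = 1} with hX
  have hcl : ∀ x ∈ X, ∀ y, frobSetoid L y x → y ∈ X := by
    rintro x hx _ ⟨h, hh, u, hu, rfl⟩
    refine ⟨mul_mem (mul_mem (hL hh) (mul_mem (hL (coreAt_le hu)) hx.1)) (inv_mem (hL hh)), ?_⟩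
    obtain ⟨w, -, e⟩ := exists_mul_pow_card_eq_conj (fun _ => conj_mem_coreAt) hu
    obtain ⟨c, hc⟩ := (card_dvd_of_le (coreAt_le (H := L) (x := x))).trans hn
    rw [conj_pow, hc, pow_mul, e, conj_pow, ← pow_mul, ← hc, hx.2]; simp
  have hcl' : ∀ x ∈ X, ∀ u ∈ coreAt L x, u * x ∈ X := fun x hx u hu =>
    hcl x hx _ ⟨1, L.one_mem, u, hu, by simp⟩
  let F : G → ℂ := fun x => (∑ u ∈ elts (coreAt L x : Set G), φ (u * x)) / ♯(coreAt L x)
  have h1 : ∑ x ∈ elts X, φ x = ∑ x ∈ elts X, F x := by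
    have h2 : ∀ x, φ x = ∑ u ∈ elts (coreAt L x : Set G), φ x / ♯(coreAt L x) := fun x => by
      rw [sum_elts_const, nsmul_eq_mul, mul_div_cancel₀ _ (cardC_ne_zero _)]
    rw [Finset.sum_congr rfl fun x _ => h2 x]
    simp only [F, Finset.sum_div]
    rw [Finset.sum_sigma', Finset.sum_sigma']
    refine Finset.sum_bij' (fun a _ => ⟨a.2 * a.1, a.2⁻¹⟩) (fun a _ => ⟨a.2 * a.1, a.2⁻¹⟩)
      ?_ ?_ (fun _ _ => by simp) (fun _ _ => by simp) ?_
    iterate 2
      · rintro ⟨x, u⟩ h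
        simp only [Finset.mem_sigma, mem_elts, SetLike.mem_coe] at h ⊢
        exact ⟨hcl' x h.1 u h.2, by rw [coreAt_mul h.2]; exact inv_mem h.2⟩
    · rintro ⟨x, u⟩ h
      simp only [Finset.mem_sigma, mem_elts, SetLike.mem_coe] at h
      simp [coreAt_mul h.2]
  have h2 : ∀ x y, frobSetoid L y x → F y = F x := by
    rintro x _ ⟨h, hh, u, hu, rfl⟩
    have e1 : ∀ f : G → ℂ, ∑ v ∈ elts (coreAt L x : Set G), f (h * v * h⁻¹) =
        ∑ v ∈ elts (coreAt L (h * (u * x) * h⁻¹) : Set G), f v := fun f =>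
      sum_elts_equiv (MulAut.conj h).toEquiv (fun v => by
        simp only [SetLike.mem_coe, MulEquiv.toEquiv_eq_coe, EquivLike.coe_coe, MulAut.conj_apply]
        rw [coreAt_conj hh, coreAt_mul hu]) f
    have e2 := e1 fun _ => 1
    rw [sum_elts_const, sum_elts_const, nsmul_one, nsmul_one] at e2
    simp only [F]
    rw [← e1, ← e2, ← sum_elts_mul_right hu fun v => φ (v * x)]
    refine congrArg (· / _) (Finset.sum_congr rfl fun v _ => ?_)
    rw [← cfunJ (vchar_mem_CF hφ) (hL hh) (v * u * x)]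
    congr 1; group
  rw [h1, ← Finset.sum_fiberwise_of_maps_to (g := Quotient.mk (frobSetoid L))
    (t := (elts X).image (Quotient.mk (frobSetoid L))) fun x hx => Finset.mem_image_of_mem _ hx,
    Finset.sum_div]
  refine IsIntegral.sum _ fun j hj => ?_
  obtain ⟨x, hx, rfl⟩ := Finset.mem_image.1 hj
  have h3 : ((elts X).filter fun y => Quotient.mk (frobSetoid L) y = Quotient.mk _ x).card = ♯L := by
    rw [← card_frobSetoid L x]
    refine (Nat.subtype_card _ fun y => ?_).symm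
    simp only [Finset.mem_filter, mem_elts, Quotient.eq]
    exact ⟨fun h => h.2, fun h => ⟨hcl x (mem_elts.1 hx) y h, h⟩⟩
  rw [Finset.sum_congr rfl fun y hy => h2 x y (Quotient.exact (Finset.mem_filter.1 hy).2),
    Finset.sum_const, h3, nsmul_eq_mul, mul_div_cancel_left₀ _ (cardC_ne_zero L)]
  exact isIntegral_coset_sum hφ (coreAt_le.trans hL) (mem_elts.1 hx).1 (mem_normalizer_coreAt L x)

theorem isCint_sum_Reg (p : ℕ) (hφ : φ ∈ ZIrr H) : IsCint (∑ x ∈ elts (Reg p H), φ x) := by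
  refine isCint_of_forall_aut (IsIntegral.sum _ fun x _ => Aint_vchar hφ x) fun u => ?_
  obtain ⟨k, hk, h⟩ := aut_vchar_pow (G := G) u
  rw [map_sum, Finset.sum_congr rfl fun x hx => h H φ x hφ (mem_elts.1 hx).1]
  refine sum_elts_equiv (powCoprime hk.symm) (fun x => ?_) φ
  have h1 := (hk.coprime_dvd_right (orderOf_dvd_natCard x)).symm
  rw [mem_Reg, mem_Reg, powCoprime_apply, h1.orderOf_pow, and_congr_left_iff]
  refine fun _ => ⟨fun hx => pow_mem hx _, fun hx => ?_⟩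
  obtain ⟨j, hj⟩ := exists_pow_eq_self_of_coprime h1.symm
  exact hj ▸ pow_mem hx j

/-- the `p'`-part of `|H|` divides the sum of a virtual character over the `p`-regular elements -/
theorem isCint_sum_Reg_div (hp : p.Prime) (hφ : φ ∈ ZIrr H) {a m : ℕ} (hH : ♯H = p ^ a * m)
    (hm : ¬ p ∣ m) : IsCint ((∑ x ∈ elts (Reg p H), φ x) / m) := by
  obtain ⟨q, hq⟩ := isCint_sum_Reg p hφ
  have hm0 : m ≠ 0 := fun h => hm (h ▸ dvd_zero p)
  have hX : Reg p H = {x | x ∈ H ∧ x ^ m = 1} := by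
    ext x
    refine and_congr_right fun hx => ⟨fun h => orderOf_dvd_iff_pow_eq_one.1 ?_, fun h h' =>
      hm (h'.trans (orderOf_dvd_of_pow_eq_one h))⟩
    exact ((hp.coprime_iff_not_dvd.2 h).symm.pow_right a).dvd_of_dvd_mul_left
      (hH ▸ Subgroup.orderOf_dvd_natCard H hx)
  have h1 : m ∣ q.natAbs := by
    rw [Nat.dvd_iff_prime_pow_dvd_dvd]
    intro l k hl hk
    have := Fact.mk hl
    obtain ⟨L, hL⟩ := Sylow.exists_subgroup_card_pow_prime (G := H) l (n := k)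
      (hH ▸ hk.mul_left _)
    have h2 := isIntegral_sum_pow_eq_one hφ (map_subtype_le L) (n := m) (by rwa [card_subtype, hL])
    rw [← hX, hq, card_subtype, hL, ← Int.cast_natCast] at h2
    exact Int.natCast_dvd.1 (int_dvd_of_Aint_div (by exact_mod_cast pow_ne_zero k hl.ne_zero) h2)
  obtain ⟨c, hc⟩ := Int.natCast_dvd.2 h1
  exact ⟨c, by rw [hq, hc]; push_cast; rw [mul_div_cancel_left₀ _ (by exact_mod_cast hm0)]⟩

end Cfsg.Agent.Blk
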