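import Cfsg.Agent.Lib.Blk.Main

/-!
# Blocks, part 5: Brauer's second main theorem for arbitrary blocks
-/

set_option autoImplicit false

namespace Cfsg.Agent.Blk

open Subgroup Cfsg.Agent.OO
open scoped ComplexConjugate

universe u

variable {G : Type u} [Group G] [Finite G] {p k : ℕ} {Γ C U : Subgroup G} {f φ ψ χ : G → ℂ}
  {u s x : G}

/-- the block of `ψ ∈ Irr C` induces the block of `χ ∈ Irr Γ` -/
def Corr (p : ℕ) (C Γ : Subgroup G) (ψ χ : G → ℂ) : Prop :=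
  ∀ f ∈ CF Γ, (∀ x, PInt p (f x)) →
    PSm p ((∑ x ∈ elts (C : Set G), f x * ψ x) / ψ 1 - (∑ x ∈ elts (Γ : Set G), f x * χ x) / χ 1)

theorem sum_zf_ind_mul [Fintype G] (h : C ≤ Γ) {B : Finset (G → ℂ)} (hB : B ⊆ Irr C) (hφ : φ ∈ CF Γ)
    (hx : x ∈ C) : ∑ c, zf C (ind B) c * φ (x * c) = ∑ ψ ∈ B, ⟪φ, ψ⟫[C] * ψ x := by
  have h1 : ∀ c, zf C (ind B) c * φ (x * c) =
      ∑ ψ ∈ Irr C, ⟪φ, ψ⟫[C] * (zf C (ind B) c * ψ (x * c)) := fun c => by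
    by_cases hc : c ∈ C
    · rw [← cfResE φ (C.mul_mem hx hc), cfun_apply_sum_cfdot (cfRes_mem_CF h hφ), Finset.mul_sum]
      simp only [cfdot_cfRes_left, mul_left_comm]
    · simp [cfun0 (zf_mem_CF _ _) hc]
  simp only [h1]
  rw [Finset.sum_comm, ← Finset.sum_subset hB]
  · refine Finset.sum_congr rfl fun ψ hψ => ?_
    rw [← Finset.mul_sum, sum_mul_irr' (mem_Irr.1 (hB hψ)) (zf_mem_CF _ _),
      om_zf (mem_Irr.1 (hB hψ)), ind_of_mem hψ, one_mul]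
  · intro ψ hψ hψ'
    rw [← Finset.mul_sum, sum_mul_irr' (mem_Irr.1 hψ) (zf_mem_CF _ _), om_zf (mem_Irr.1 hψ),
      ind_of_not_mem hψ', zero_mul, mul_zero]

theorem br_om [Fintype G] (hf : f ∈ CF Γ) (ψ : G → ℂ) :
    br C Γ (fun χ => om Γ χ f) ψ = om C ψ f := by
  rw [br, zf_eq hf fun _ _ => rfl, om, om]
  exact congrArg (· / _) (Finset.sum_congr rfl fun x hx => by rw [cfResE _ (mem_elts.1 hx)])

variable [hp : Fact p.Prime]

/-- Brauer's second main theorem: the part of `χ` in a block of `C(u)` which does not induce the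
block of `χ` vanishes on the section of `u` -/
theorem sum_blk_eq_zero [Fintype G] (hu : u ∈ Γ) (hk : u ^ p ^ k = 1)
    (hs : s ∈ Reg p (Γ ⊓ 𝐂[u])) (hχ : IsIrr Γ χ) (h : ¬ Corr p (Γ ⊓ 𝐂[u]) Γ ψ χ) :
    ∑ ξ ∈ blk p (Γ ⊓ 𝐂[u]) ψ, ⟪χ, ξ⟫[Γ ⊓ 𝐂[u]] * ξ (u * s) = 0 := by
  have hg : u * s ∈ Γ ⊓ 𝐂[u] := mul_mem ⟨hu, mem_centralizer_singleton_iff.2 rfl⟩ hs.1
  rw [← sum_zf_ind_mul inf_le_left (fun ξ hξ => mem_Irr.2 (mem_blk.1 hξ).1) hχ.mem_CF hg]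
  have he := zi_ind_blk p Γ χ
  refine sum_zf_mul_eq_zero hu hk hs he (zi_ind_blk p _ ψ) (ind_mul_self _) (ind_mul_self _)
    (zs_br_mul hu hk he (zi_ind_blk p _ ψ) (ind_mul_self _) (ind_mul_self _) fun ξ hξ => ?_) hχ
    (ind_of_mem (mem_blk.2 ⟨hχ, fun _ _ => by simpa using pSm_zero⟩))
  by_cases h1 : ξ ∈ blk p (Γ ⊓ 𝐂[u]) ψ
  swap
  · simpa [ind_of_not_mem h1] using pSm_zero
  rw [ind_of_mem h1, mul_one]
  simp only [Corr, not_forall] at h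
  obtain ⟨f, hf, hi, h⟩ := h
  have hw := (zi_om hf hi).sub (zi_one.smul (om_pInt hχ hf hi))
  obtain ⟨n, hn⟩ := (hw.mul he).nilpotent fun η hη => by
    by_cases h2 : η ∈ blk p Γ χ
    · simpa [ind_of_mem h2] using (mem_blk.1 h2).2 _ (zi_om hf hi)
    · simpa [ind_of_not_mem h2] using pSm_zero
  have h2 := ((hn.br inf_le_left).sub (br_pow hu hk (hw.mul he) n)).pSm hξ
  rw [sub_sub_cancel, Pi.pow_apply] at h2
  have h3 := (br_mul hu hk hw he).pSm hξ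
  rw [Pi.sub_apply, Pi.mul_apply] at h3
  refine (h3.sub_comm.of_sub h2.of_pow).of_mul_left fun h4 => h ?_
  rw [br_sub, br_smul, Pi.sub_apply, Pi.smul_apply, br_one hξ, br_om hf, smul_eq_mul, mul_one] at h4
  have h5 := (mem_blk.1 h1).2 _ ((zi_om hf hi).br inf_le_left)
  rw [br_om hf, br_om hf] at h5
  exact h5.sub_comm.trans h4

open Classical in
/-- Brauer's second main theorem -/
theorem second_main (hu : u ∈ Γ) (hk : u ^ p ^ k = 1) (hs : s ∈ Reg p (Γ ⊓ 𝐂[u]))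
    (hχ : IsIrr Γ χ) : χ (u * s) = ∑ ψ ∈ (Irr (Γ ⊓ 𝐂[u])).filter fun ψ => Corr p (Γ ⊓ 𝐂[u]) Γ ψ χ,
      ⟪χ, ψ⟫[Γ ⊓ 𝐂[u]] * ψ (u * s) := by
  have := Fintype.ofFinite G
  set C := Γ ⊓ 𝐂[u]
  have hg : u * s ∈ C := mul_mem ⟨hu, mem_centralizer_singleton_iff.2 rfl⟩ hs.1
  have hblk : ∀ ψ ξ, ξ ∈ blk p C ψ → blk p C ξ = blk p C ψ := fun ψ ξ hξ => by
    ext η
    simp only [mem_blk] at hξ ⊢
    exact and_congr_right fun _ => ⟨fun h w hw => (h w hw).trans (hξ.2 w hw),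
      fun h w hw => (h w hw).trans (hξ.2 w hw).sub_comm⟩
  have hself : ∀ ψ, IsIrr C ψ → ψ ∈ blk p C ψ := fun ψ hψ =>
    mem_blk.2 ⟨hψ, fun _ _ => by simpa using pSm_zero⟩
  have h0 : ∑ ψ ∈ (Irr C).filter fun ψ => ¬ Corr p C Γ ψ χ, ⟪χ, ψ⟫[C] * ψ (u * s) = 0 := by
    rw [← Finset.sum_fiberwise_of_maps_to (g := blk p C) fun x hx => Finset.mem_image_of_mem _ hx]
    refine Finset.sum_eq_zero fun b hb => ?_
    obtain ⟨ψ, hψ, rfl⟩ := Finset.mem_image.1 hb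
    obtain ⟨hψ1, hψ2⟩ := Finset.mem_filter.1 hψ
    rw [← sum_blk_eq_zero hu hk hs hχ hψ2]
    refine Finset.sum_congr (Finset.ext fun ξ => ?_) fun _ _ => rfl
    simp only [Finset.mem_filter, mem_Irr]
    refine ⟨fun h => h.2 ▸ hself ξ h.1.1, fun h => ⟨⟨(mem_blk.1 h).1, fun h1 => hψ2 fun f hf hi => ?_⟩,
      hblk ψ ξ h⟩⟩
    have h5 := (mem_blk.1 h).2 _ ((zi_om hf hi).br inf_le_left)
    rw [br_om hf, br_om hf] at h5
    exact h5.sub_comm.trans (h1 f hf hi)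
  rw [← cfResE χ hg, cfun_apply_sum_cfdot (cfRes_mem_CF (inf_le_left : C ≤ Γ) hχ.mem_CF),
    ← Finset.sum_filter_add_sum_filter_not _ fun ψ => Corr p C Γ ψ χ]
  simp only [cfdot_cfRes_left]
  exact (congrArg _ h0).trans (add_zero _)

omit hp in
/-- central characters of a constituent of the restriction to a subgroup -/
theorem central_eq_of_constt (hU : U ≤ C) (hχ : IsIrr C χ) (hψ : IsIrr U ψ) (h : ⟪χ, ψ⟫[U] ≠ 0)
    (hf : f ∈ CF C) (hfU : f ∈ suppOn (U : Set G)) :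
    (∑ x ∈ elts (C : Set G), f x * χ x) / χ 1 = (∑ x ∈ elts (U : Set G), f x * ψ x) / ψ 1 := by
  have := Fintype.ofFinite G
  have hfU' : f ∈ CF U := ⟨hfU, fun h hh => hf.2 h (hU hh)⟩
  have h1 : ∀ y ∈ U, om C χ f * χ y = (∑ θ ∈ Irr U, (⟪χ, θ⟫[U] * om U θ f) • θ) y := fun y hy => by
    rw [← sum_mul_irr' hχ hf, Finset.sum_apply]
    simp only [Pi.smul_apply, smul_eq_mul, mul_assoc]
    symm
    rw [Finset.sum_congr rfl fun θ hθ => by rw [← sum_mul_irr' (mem_Irr.1 hθ) hfU', Finset.mul_sum],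
      Finset.sum_comm]
    symm
    refine Finset.sum_congr rfl fun x _ => ?_
    by_cases hx : x ∈ U
    · rw [← cfResE χ (U.mul_mem hy hx), cfun_apply_sum_cfdot (cfRes_mem_CF hU hχ.mem_CF),
        Finset.mul_sum]
      simp only [cfdot_cfRes_left, mul_left_comm]
    · simp [hfU x hx]
  have h2 := cfdot_congr (H := U) (φ := om C χ f • χ) h1 fun x _ => (rfl : ψ x = ψ x)
  rw [cfdotZl, cfdot_sum_smul_irr (fun _ => mem_Irr.1) _ (mem_Irr.2 hψ), mul_comm] at h2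
  exact mul_left_cancel₀ h h2

/-- the second main theorem when `C(u)` has a normal `p`-complement `U` -/
theorem pSm_central_of_cfdot_ne_zero (hu : u ∈ Γ) (hk : u ^ p ^ k = 1)
    (hU : ∀ g, g ∈ Reg p (Γ ⊓ 𝐂[u]) ↔ g ∈ U) (hχ : IsIrr Γ χ) (hψ : IsIrr U ψ)
    (h : ⟪fun y => χ (u * y), ψ⟫[U] ≠ 0) (hf : f ∈ CF Γ) (hi : ∀ x, PInt p (f x))
    (hs : ∀ x, p ∣ orderOf x → f x = 0) :
    PSm p ((∑ x ∈ elts (U : Set G), f x * ψ x) / ψ 1 -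
      (∑ x ∈ elts (Γ : Set G), f x * χ x) / χ 1) := by
  classical
  have hUC : U ≤ Γ ⊓ 𝐂[u] := fun g hg => ((hU g).2 hg).1
  rw [cfdot_congr (φ' := ∑ ξ ∈ (Irr (Γ ⊓ 𝐂[u])).filter fun ξ => Corr p (Γ ⊓ 𝐂[u]) Γ ξ χ,
      ⟪χ, ξ⟫[Γ ⊓ 𝐂[u]] • fun y => ξ (u * y)) (fun y hy => by
        rw [second_main hu hk ((hU y).2 hy) hχ]; simp) fun _ _ => rfl, cfdot_suml] at h
  obtain ⟨ξ, hξ, h1⟩ := Finset.exists_ne_zero_of_sum_ne_zero h
  obtain ⟨hξ1, hξ2⟩ := Finset.mem_filter.1 hξ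
  obtain ⟨c, hc⟩ := (mem_Irr.1 hξ1).exists_scalar (z := u)
    ⟨hu, mem_centralizer_singleton_iff.2 rfl⟩ fun y hy => by
      rw [← mem_centralizer_singleton_iff.1 hy.2]; simp [one_mem]
  have h2 : ⟪ξ, ψ⟫[U] ≠ 0 := fun e => h1 (by
    rw [cfdotZl, show (fun y => ξ (u * y)) = c • ξ from funext hc, cfdotZl, e, mul_zero, mul_zero])
  have h3 := central_eq_of_constt hUC (mem_Irr.1 hξ1) hψ h2 (cfRes_mem_CF inf_le_left hf)
    fun x hx => by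
      by_cases hx' : x ∈ Γ ⊓ 𝐂[u]
      · rw [cfResE _ hx', hs x (not_not.1 fun e => hx ((hU x).1 ⟨hx', e⟩))]
      · exact cfRes_of_not_mem _ hx'
  rw [Finset.sum_congr rfl fun x hx => by rw [cfResE _ (mem_elts.1 hx)],
    Finset.sum_congr (s₁ := elts (U : Set G)) rfl fun x hx => by
      rw [cfResE _ (hUC (mem_elts.1 hx))]] at h3
  exact h3 ▸ hξ2 f hf hi

end Cfsg.Agent.Blk
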