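import Mathlib

/-!
# Blocks, part 1: a place of `ℂ` over `p`, the trace lemma and the orbit lemma
-/

set_option autoImplicit false

namespace Cfsg.Agent.Blk

theorem exists_valRing {p : ℕ} (hp : p.Prime) :
    ∃ O : ValuationSubring ℂ, O.valuation (p : ℂ) < 1 := by
  have h : Ideal.span {((p : ℕ) : (⊥ : Subring ℂ))} ≠ ⊤ := by
    rw [Ne, Ideal.span_singleton_eq_top, isUnit_iff_exists_inv]
    rintro ⟨⟨b, hb⟩, e⟩
    obtain ⟨n, rfl⟩ := Subring.mem_bot.1 hb
    have e1 : (p : ℂ) * (n : ℂ) = 1 := by simpa using congrArg Subtype.val e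
    have e2 : (p : ℤ) * n = 1 := by exact_mod_cast e1
    have := Int.natAbs_mul (p : ℤ) n
    rw [e2] at this
    exact hp.one_lt.ne' (Nat.eq_one_of_mul_eq_one_right (by simpa using this.symm))
  obtain ⟨O, -, hO⟩ := Ideal.image_subset_nonunits_valuationSubring _ h
  exact ⟨O, O.mem_nonunits_iff.1 (hO ⟨_, Ideal.subset_span rfl, by simp⟩)⟩

open Classical in
/-- a valuation ring of `ℂ` in which `p` is not a unit -/
noncomputable def valRing (p : ℕ) : ValuationSubring ℂ :=
  if h : ∃ O : ValuationSubring ℂ, O.valuation (p : ℂ) < 1 then h.choose else ⊤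

/-- `c` is integral at the chosen place over `p` -/
def PInt (p : ℕ) (c : ℂ) : Prop := (valRing p).valuation c ≤ 1
/-- `c` lies in the maximal ideal of the chosen place over `p` -/
def PSm (p : ℕ) (c : ℂ) : Prop := (valRing p).valuation c < 1

variable {p : ℕ} {a b c : ℂ}

theorem PSm.pInt (h : PSm p a) : PInt p a := le_of_lt h
theorem pSm_zero : PSm p 0 := by simp [PSm]
theorem pInt_zero : PInt p 0 := by simp [PInt]
theorem pInt_one : PInt p 1 := by simp [PInt]
theorem not_pSm_one : ¬ PSm p 1 := by simp [PSm]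
theorem PInt.add (h : PInt p a) (h' : PInt p b) : PInt p (a + b) := Valuation.map_add_le _ h h'
theorem PSm.add (h : PSm p a) (h' : PSm p b) : PSm p (a + b) := Valuation.map_add_lt _ h h'
theorem PInt.neg (h : PInt p a) : PInt p (-a) := by simpa [PInt] using h
theorem PSm.neg (h : PSm p a) : PSm p (-a) := by simpa [PSm] using h
theorem PInt.sub (h : PInt p a) (h' : PInt p b) : PInt p (a - b) := Valuation.map_sub_le _ h h'
theorem PSm.sub (h : PSm p a) (h' : PSm p b) : PSm p (a - b) := Valuation.map_sub_lt _ h h'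
theorem PSm.sub_comm (h : PSm p (a - b)) : PSm p (b - a) := by simpa using h.neg
theorem PSm.trans (h : PSm p (a - b)) (h' : PSm p (b - c)) : PSm p (a - c) := by
  simpa using h.add h'
theorem PInt.mul (h : PInt p a) (h' : PInt p b) : PInt p (a * b) := by
  unfold PInt at *; rw [map_mul]; exact mul_le_one' h h'
theorem PSm.mul_pInt (h : PSm p a) (h' : PInt p b) : PSm p (a * b) := by
  unfold PInt PSm at *; rw [map_mul]; exact (mul_le_of_le_one_right' h').trans_lt h
theorem PInt.mul_pSm (h : PInt p a) (h' : PSm p b) : PSm p (a * b) := by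
  rw [mul_comm]; exact h'.mul_pInt h
theorem PInt.pow (h : PInt p a) (n : ℕ) : PInt p (a ^ n) := by
  unfold PInt at *; rw [map_pow]; exact pow_le_one' h n
theorem pInt_sum {ι : Type*} {s : Finset ι} {f : ι → ℂ} (h : ∀ i ∈ s, PInt p (f i)) :
    PInt p (∑ i ∈ s, f i) := Valuation.map_sum_le _ h
theorem pSm_sum {ι : Type*} {s : Finset ι} {f : ι → ℂ} (h : ∀ i ∈ s, PSm p (f i)) :
    PSm p (∑ i ∈ s, f i) := Valuation.map_sum_lt _ one_ne_zero h
theorem pInt_prod {ι : Type*} {s : Finset ι} {f : ι → ℂ} (h : ∀ i ∈ s, PInt p (f i)) :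
    PInt p (∏ i ∈ s, f i) :=
  Finset.prod_induction f (PInt p) (fun _ _ => PInt.mul) pInt_one h

theorem val_eq_one (h : PInt p a) (h' : ¬ PSm p a) : (valRing p).valuation a = 1 :=
  le_antisymm h (not_lt.1 h')

theorem ne_zero_of_not_pSm (h : ¬ PSm p a) : a ≠ 0 := fun e => h (e ▸ pSm_zero)

theorem PInt.inv (h : PInt p a) (h' : ¬ PSm p a) : PInt p a⁻¹ := by
  unfold PInt; rw [map_inv₀, val_eq_one h h', inv_one]

theorem PSm.or_of_mul (h : PSm p (a * b)) : PSm p a ∨ PSm p b := by
  by_contra h1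
  push Not at h1
  unfold PSm at *
  rw [map_mul] at h
  exact absurd h (not_lt.2 (one_le_mul (not_lt.1 h1.1) (not_lt.1 h1.2)))

theorem PSm.of_mul_left (h : PSm p (a * b)) (ha : ¬ PSm p a) : PSm p b :=
  h.or_of_mul.resolve_left ha

theorem PSm.of_pow {n : ℕ} (h : PSm p (a ^ n)) : PSm p a := by
  induction n with
  | zero => exact absurd (by simpa using h) not_pSm_one
  | succ n ih => rw [pow_succ] at h; exact h.or_of_mul.elim ih id

theorem not_pSm_prod {ι : Type*} {s : Finset ι} {f : ι → ℂ} (h : ∀ i ∈ s, ¬ PSm p (f i)) :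
    ¬ PSm p (∏ i ∈ s, f i) :=
  Finset.prod_induction f (fun x => ¬ PSm p x)
    (fun _ _ ha hb h => h.or_of_mul.elim ha hb) not_pSm_one h

theorem PSm.of_sub (h : PSm p (a - b)) (hb : PSm p b) : PSm p a := by simpa using h.add hb

theorem PInt.of_sub (h : PSm p (a - b)) (hb : PInt p b) : PInt p a := by
  simpa using h.pInt.add hb

theorem pInt_of_isIntegral (h : IsIntegral ℤ a) : PInt p a := by
  have h1 : IsIntegral (valRing p) a := h.tower_top
  have := (Valuation.valuationSubring.integers (valRing p).valuation)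
  obtain ⟨y, rfl⟩ := (IsIntegrallyClosed.isIntegral_iff (R := valRing p) (K := ℂ)).1 h1
  exact (valRing p).valuation_le_one y

theorem pInt_natCast (n : ℕ) : PInt p n := pInt_of_isIntegral (isIntegral_natCast n)
theorem pInt_intCast (n : ℤ) : PInt p n := pInt_of_isIntegral (isIntegral_intCast n)

theorem pInt_of_pow_eq_one {n : ℕ} (hn : n ≠ 0) (h : a ^ n = 1) : PInt p a :=
  pInt_of_isIntegral (IsIntegral.of_pow (Nat.pos_of_ne_zero hn) (h ▸ isIntegral_one))

variable [hp : Fact p.Prime]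

theorem pSm_self : PSm p p := by
  have h := exists_valRing hp.out
  unfold PSm valRing
  rw [dif_pos h]
  exact h.choose_spec

theorem pSm_intCast {n : ℤ} : PSm p n ↔ (p : ℤ) ∣ n := by
  refine ⟨fun h => ?_, ?_⟩
  · by_contra h1
    obtain ⟨x, y, e⟩ := (Nat.prime_iff_prime_int.1 hp.out).irreducible.coprime_iff_not_dvd.2 h1
    have e1 : (x : ℂ) * p + y * n = 1 := by exact_mod_cast e
    exact not_pSm_one (e1 ▸ ((pInt_intCast x).mul_pSm pSm_self).add ((pInt_intCast y).mul_pSm h))
  · rintro ⟨m, rfl⟩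
    push_cast
    exact pSm_self.mul_pInt (pInt_intCast m)

theorem pSm_natCast {n : ℕ} : PSm p n ↔ p ∣ n := by
  rw [← Int.natCast_dvd_natCast, ← pSm_intCast, Int.cast_natCast]

theorem pSm_sub_one_of_pow (h : a ^ p = 1) : PSm p (a - 1) := by
  have hi : PInt p a := pInt_of_pow_eq_one hp.out.ne_zero h
  obtain ⟨r, hr⟩ := exists_add_pow_prime_eq (R := valRing p) hp.out
    ⟨a - 1, (valRing p).mem_of_valuation_le_one _ (hi.sub pInt_one)⟩ 1
  have h1 := congrArg Subtype.val hr
  push_cast at h1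
  rw [sub_add_cancel, h, one_pow, mul_one] at h1
  have h2 : (a - 1) ^ p = -(p * ((a - 1) * r)) := by linear_combination -h1
  refine PSm.of_pow (n := p) (h2 ▸ (pSm_self.mul_pInt ((hi.sub pInt_one).mul ?_)).neg)
  exact (valRing p).valuation_le_one r

omit hp in
/-- an idempotent modulo the maximal ideal is `0` or `1` -/
theorem pSm_or_of_idem (h : PSm p (a * a - a)) : PSm p a ∨ PSm p (a - 1) := by
  rw [show a * a - a = a * (a - 1) by ring] at h
  exact h.or_of_mul

omit hp in
/-- eigenvalues of integral matrices are integral -/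
theorem val_le_of_eigen {ι : Type*} [Finite ι] {w : ι → ℂ} (hw : w ≠ 0) {κ : Type*}
    {t : Finset κ} {f : κ → ℂ} {σ : κ → ι → ι} (h : ∀ i, ∑ k ∈ t, f k * w (σ k i) = c * w i) :
    ((∀ k ∈ t, PInt p (f k)) → PInt p c) ∧ ((∀ k ∈ t, PSm p (f k)) → PSm p c) := by
  have : Nonempty ι := by
    by_contra h0
    exact hw (funext fun i => absurd ⟨i⟩ h0)
  obtain ⟨i, hi⟩ := Finite.exists_max fun i => (valRing p).valuation (w i)
  have h0 : 0 < (valRing p).valuation (w i) := by
    obtain ⟨j, hj⟩ := Function.ne_iff.1 hw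
    exact lt_of_lt_of_le ((Valuation.pos_iff _).2 hj) (hi j)
  constructor
  · intro hf
    have h1 : (valRing p).valuation (c * w i) ≤ (valRing p).valuation (w i) := by
      rw [← h]
      refine Valuation.map_sum_le _ fun k hk => ?_
      rw [map_mul]
      exact (mul_le_of_le_one_left' (hf k hk)).trans (hi _)
    rw [map_mul] at h1
    exact (mul_le_iff_le_one_left h0).1 h1
  · intro hf
    have h1 : (valRing p).valuation (c * w i) < (valRing p).valuation (w i) := by
      rw [← h]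
      refine Valuation.map_sum_lt _ h0.ne' fun k hk => ?_
      rw [map_mul]
      exact (mul_le_mul_right (hi _) _).trans_lt (mul_lt_of_lt_one_left h0 (hf k hk))
    rw [map_mul] at h1
    exact (mul_lt_iff_lt_one_left h0).1 h1

/-! ### Matrices -/

section matrix
omit hp
variable {n : Type*} [Fintype n] [DecidableEq n] {A B : Matrix n n ℂ}

/-- integral matrix -/
def MInt (p : ℕ) (A : Matrix n n ℂ) : Prop := ∀ i j, PInt p (A i j)
/-- matrix with entries in the maximal ideal -/
def MSm (p : ℕ) (A : Matrix n n ℂ) : Prop := ∀ i j, PSm p (A i j)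

omit [DecidableEq n] in
theorem MInt.mul (h : MInt p A) (h' : MInt p B) : MInt p (A * B) := fun i j => by
  rw [Matrix.mul_apply]; exact pInt_sum fun k _ => (h i k).mul (h' k j)
omit [DecidableEq n] in
theorem MSm.mul_mInt (h : MSm p A) (h' : MInt p B) : MSm p (A * B) := fun i j => by
  rw [Matrix.mul_apply]; exact pSm_sum fun k _ => (h i k).mul_pInt (h' k j)
omit [DecidableEq n] in
theorem MInt.mul_mSm (h : MInt p A) (h' : MSm p B) : MSm p (A * B) := fun i j => by
  rw [Matrix.mul_apply]; exact pSm_sum fun k _ => (h i k).mul_pSm (h' k j)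

theorem isUnit_of_mSm (h : MSm p (A - 1)) : IsUnit A := by
  rw [← Matrix.mulVec_injective_iff_isUnit]
  refine (injective_iff_map_eq_zero (Matrix.mulVecLin A)).2 fun w hw => ?_
  by_contra h0
  have : Nonempty n := by
    by_contra h1
    exact h0 (funext fun i => absurd ⟨i⟩ h1)
  obtain ⟨i, hi⟩ := Finite.exists_max fun i => (valRing p).valuation (w i)
  have h1 : 0 < (valRing p).valuation (w i) := by
    obtain ⟨j, hj⟩ := Function.ne_iff.1 h0
    exact lt_of_lt_of_le ((Valuation.pos_iff _).2 hj) (hi j)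
  have h2 : -w i = ∑ j, (A - 1) i j * w j := by
    have h3 : (A - 1).mulVec w = -w := by
      rw [Matrix.sub_mulVec, Matrix.one_mulVec, show A.mulVec w = 0 from hw, zero_sub]
    exact (congrFun h3 i).symm
  have h3 : (valRing p).valuation (-w i) < (valRing p).valuation (w i) := by
    rw [h2]
    refine Valuation.map_sum_lt _ h1.ne' fun k _ => ?_
    rw [map_mul]
    exact (mul_le_mul_right (hi _) _).trans_lt (mul_lt_of_lt_one_left h1 (h i k))
  simp at h3

/-- The trace lemma. -/
theorem trace_eq_zero {U P X Q : Matrix n n ℂ} (hP : P * P = P) (hUP : U * P = P * U)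
    (hQP : Q * P = P * Q) (hQX : Q * X = X * Q) (hc : c ≠ 1)
    (hX : U * X = c • (X * U)) (hs : MSm p (P * X * P - P)) : (U * P * Q).trace = 0 := by
  obtain ⟨Y, hY⟩ := isUnit_of_mSm (A := P * X * P + (1 - P)) (by
    rwa [show P * X * P + (1 - P) - 1 = P * X * P - P by abel])
  have hPP : ∀ Z : Matrix n n ℂ, P * (P * Z) = P * Z := fun Z => by rw [← mul_assoc, hP]
  have hUP' : ∀ Z : Matrix n n ℂ, U * (P * Z) = P * (U * Z) := fun Z => by
    rw [← mul_assoc, hUP, mul_assoc]
  have hQP' : ∀ Z : Matrix n n ℂ, Q * (P * Z) = P * (Q * Z) := fun Z => by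
    rw [← mul_assoc, hQP, mul_assoc]
  have hQX' : ∀ Z : Matrix n n ℂ, Q * (X * Z) = X * (Q * Z) := fun Z => by
    rw [← mul_assoc, hQX, mul_assoc]
  have hX' : ∀ Z : Matrix n n ℂ, U * (X * Z) = c • (X * (U * Z)) := fun Z => by
    rw [← mul_assoc, hX, smul_mul_assoc, mul_assoc]
  have h1 : U * P * Q * Y = c • (Y * (U * P * Q)) := by
    rw [hY]
    simp only [mul_add, add_mul, mul_sub, sub_mul, mul_one, one_mul, mul_assoc, hQP, hPP, hUP',
      hQP', hQX', hX', mul_smul_comm, sub_self, add_zero]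
  have h2 : (U * P * Q).trace = c * (U * P * Q).trace := by
    calc _ = (U * P * Q * Y * (Y⁻¹ : (Matrix n n ℂ)ˣ)).trace := by rw [Units.mul_inv_cancel_right]
      _ = _ := by
        rw [h1, smul_mul_assoc, Matrix.trace_smul, Matrix.trace_mul_comm,
          Units.inv_mul_cancel_left, smul_eq_mul]
  have h3 : (1 - c) * (U * P * Q).trace = 0 := by linear_combination h2
  exact (mul_eq_zero.1 h3).resolve_left (sub_ne_zero.2 hc.symm)

end matrix

/-- The orbit lemma: a twisting function on orbits of length divisible by `p`. -/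
theorem exists_twist {X : Type*} [Finite X] (σ : Equiv.Perm X) :
    ∃ (ε : ℂ) (κ : X → ℂ), ε ≠ 1 ∧ (∀ x, PSm p (κ x - 1)) ∧
      ∀ x, (∀ m : ℕ, (σ ^ m) x = x → p ∣ m) → κ (σ x) = ε * κ x := by
  classical
  have hε := Complex.isPrimitiveRoot_exp p hp.out.ne_zero
  set ε := Complex.exp (2 * Real.pi * Complex.I / p)
  let r : X → X := fun x => (Quotient.mk (Equiv.Perm.SameCycle.setoid σ) x).out
  have hr : ∀ x, ∃ k : ℕ, (σ ^ k) (r x) = x := fun x => by
    have : σ.SameCycle (r x) x := Quotient.exact (Quotient.out_eq (Quotient.mk (Equiv.Perm.SameCycle.setoid σ) x))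
    obtain ⟨k, -, hk⟩ := this.exists_pow_eq'
    exact ⟨k, hk⟩
  choose k hk using hr
  refine ⟨ε, fun x => ε ^ k x, hε.ne_one hp.out.one_lt, fun x => pSm_sub_one_of_pow ?_, fun x hx => ?_⟩
  · rw [← pow_mul, mul_comm, pow_mul, hε.pow_eq_one, one_pow]
  · have h1 : r (σ x) = r x := congrArg Quotient.out
      (Quotient.sound (Equiv.Perm.sameCycle_apply_left.2 (Equiv.Perm.SameCycle.refl σ x)))
    have h2 : (σ ^ k (σ x)) (r x) = (σ ^ (k x + 1)) (r x) := by
      rw [pow_succ', Equiv.Perm.mul_apply, hk, ← h1, hk]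
    have key : ∀ a b : ℕ, a ≤ b → (σ ^ a) (r x) = (σ ^ b) (r x) → ε ^ b = ε ^ a := by
      intro a b hab e
      obtain ⟨d, rfl⟩ := Nat.exists_eq_add_of_le hab
      rw [pow_add, Equiv.Perm.mul_apply, (σ ^ a).injective.eq_iff] at e
      obtain ⟨m, rfl⟩ := hx d (by
        conv_lhs => rw [← hk x, ← Equiv.Perm.mul_apply, ← pow_add, add_comm, pow_add,
          Equiv.Perm.mul_apply, ← e, hk])
      rw [pow_add, pow_mul, hε.pow_eq_one, one_pow, mul_one]
    change ε ^ k (σ x) = ε * ε ^ k x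
    rw [← pow_succ']
    rcases le_total (k (σ x)) (k x + 1) with h | h
    · exact (key _ _ h h2).symm
    · exact key _ _ h h2.symm

/-- a sum of an invariant integral function over orbits of length divisible by `p` is small -/
theorem pSm_sum_of_invariant {X : Type*} [Finite X] (σ : Equiv.Perm X) {s : Finset X}
    (hs : ∀ x, x ∈ s ↔ σ x ∈ s) (ho : ∀ x ∈ s, ∀ m : ℕ, (σ ^ m) x = x → p ∣ m) {F : X → ℂ}
    (hF : ∀ x ∈ s, F (σ x) = F x) (hi : ∀ x ∈ s, PInt p (F x)) : PSm p (∑ x ∈ s, F x) := by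
  obtain ⟨ε, κ, hε, h1, h2⟩ := exists_twist (p := p) σ
  have h3 : ∑ x ∈ s, κ x * F x = ε * ∑ x ∈ s, κ x * F x := by
    rw [Finset.mul_sum, ← Finset.sum_equiv σ hs (f := fun x => κ (σ x) * F (σ x)) fun _ _ => rfl]
    exact Finset.sum_congr rfl fun x hx => by rw [h2 x (ho x hx), hF x hx, mul_assoc]
  have h4 : ∑ x ∈ s, κ x * F x = 0 := by
    have : (1 - ε) * ∑ x ∈ s, κ x * F x = 0 := by linear_combination h3
    exact (mul_eq_zero.1 this).resolve_left (sub_ne_zero.2 hε.symm)
  have h5 : ∑ x ∈ s, F x = -∑ x ∈ s, (κ x - 1) * F x := by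
    simp only [sub_mul, Finset.sum_sub_distrib, h4, one_mul]; ring
  rw [h5]
  exact (pSm_sum fun x hx => (h1 x).mul_pInt (hi x hx)).neg

end Cfsg.Agent.Blk
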